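import Cfsg.Agent.OddHalf.D9.TwoM12.EvenFacts
import Cfsg.Agent.OddHalf.D4.Cut

/-!
# ODD, D4: the row `2.M12` (`D4.Cut.RowsCov.m12`)
-/

set_option autoImplicit false

namespace Cfsg.Agent.OddHalf.D9.TwoM12

open Cfsg Subgroup

universe u

/-- **The row `2.M12` of D4.** -/
theorem d4_row : D4.Cut.Row0.{u} (fun K _ => D9.Cut.Two (fun X _ => Spor.IsoM12 X) K) := by
  intro G _ C K S hr hK
  haveI := C.fin
  obtain ⟨h2, he⟩ := hK
  have hp : commutator ↥K = ⊤ := S.std.1.1.commutator_eq_top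
  obtain ⟨F, hS⟩ := exists_evenFacts hp h2 he
  have hcyc : IsCyclic ↥(center ↥K) := isCyclic_of_prime_card (p := 2) h2
  have hne : center ↥K ≠ ⊥ := by
    intro h
    rw [h, Subgroup.card_bot] at h2
    omega
  exact hr (D4.EvenCycM12.row C S hcyc hne F hS)

end Cfsg.Agent.OddHalf.D9.TwoM12
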