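import Cfsg.Agent.OddHalf.D9.TwoM12.KFacts
import Cfsg.Agent.OddHalf.D9.Amb

/-!
# ODD, D9: the row `2.M12` (`D9.Cut.Rows.m12`)
-/

set_option autoImplicit false

namespace Cfsg.Agent.OddHalf.D9.TwoM12

open Cfsg Subgroup

universe u

/-- `helper277`'s facts -/
theorem ambFacts : Amb.Facts.{u} := by
  intro L _ _ hp h2 he c hc hc1
  obtain ⟨c', hc', hk⟩ := exists_kfacts hp h2 he
  obtain ⟨u, -, huu⟩ := (Nat.card_eq_two_iff' (1 : center L)).mp h2
  have h5 := huu ⟨c, hc⟩ (fun h => hc1 (congrArg Subtype.val h))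
  have h6 := huu ⟨c', hc'⟩ (fun h => hk.c1 (congrArg Subtype.val h))
  have h7 : c = c' := congrArg Subtype.val (h5.trans h6.symm)
  rw [h7]
  exact hk

/-- **The row `2.M12` of D9.** -/
theorem row : Cut.Row.{u} (fun K _ => Cut.Two (fun X _ => Spor.IsoM12 X) K) := Amb.row ambFacts

end Cfsg.Agent.OddHalf.D9.TwoM12
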