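import Cfsg.Agent.OddHalf.D9.TwoM12.Aut
import Cfsg.Agent.CoThreeStd.AutAlpha

/-!
# Perfect double covers of `M12`: bad pairs of automorphisms (S1765, D4, `EvenCyc`)

A bad pair: commuting involutory automorphisms `a ≠ b` with `C(a) ≤ C(b)` and `C(ab) ≤ C(b)`.

* `bad_inner` (m1): not both are inner; `Bad.inner_b`: `b` is inner.
* `bad_move` (m2).
* `sqDiff` (P2).
-/

set_option autoImplicit false
open scoped Pointwise commutatorElement
open Cfsg

namespace Cfsg.Agent.OddHalf.D9.TwoM12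

open Cfsg.Agent.CoThreeStd.MTwelve Cfsg.Agent.CoThreeStd.InvTwo Cfsg.Agent.CoThreeStd.OutAut
open Cfsg.Agent.CoThreeStd.DeltaData (mem_cbe cbe)
open Cfsg.Agent.KFacts.MulTwo Cfsg.Agent.KFacts.MulDef

/-- a bad pair of automorphisms -/
structure Bad {X : Type*} [Group X] (a b : MulAut X) : Prop where
  aa : a * a = 1
  bb : b * b = 1
  ab : a * b = b * a
  a1 : a ≠ 1
  b1 : b ≠ 1
  ne : a ≠ b
  le : ∀ x, a x = x → b x = x
  le' : ∀ x, a (b x) = x → b x = x

namespace Bad

variable {X : Type*} [Group X] {a b : MulAut X}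

theorem conj (h : Bad a b) (θ : MulAut X) : Bad (θ * a * θ⁻¹) (θ * b * θ⁻¹) where
  aa := by
    calc θ * a * θ⁻¹ * (θ * a * θ⁻¹) = θ * (a * a) * θ⁻¹ := by group
      _ = 1 := by rw [h.aa]; group
  bb := by
    calc θ * b * θ⁻¹ * (θ * b * θ⁻¹) = θ * (b * b) * θ⁻¹ := by group
      _ = 1 := by rw [h.bb]; group
  ab := by
    calc θ * a * θ⁻¹ * (θ * b * θ⁻¹) = θ * (a * b) * θ⁻¹ := by group
      _ = θ * b * θ⁻¹ * (θ * a * θ⁻¹) := by rw [h.ab]; group
  a1 := fun h1 => h.a1 (conj_eq_one_iff.mp h1)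
  b1 := fun h1 => h.b1 (conj_eq_one_iff.mp h1)
  ne := fun h1 => h.ne (mul_left_cancel (mul_right_cancel h1))
  le := fun x hx => by
    have hx' : θ (a (θ⁻¹ x)) = x := hx
    show θ (b (θ⁻¹ x)) = x
    have h1 : a (θ⁻¹ x) = θ⁻¹ x := by
      apply θ.injective
      rw [hx', MulAut.apply_inv_self]
    rw [h.le _ h1, MulAut.apply_inv_self]
  le' := fun x hx => by
    have hx' : θ (a (θ⁻¹ (θ (b (θ⁻¹ x))))) = x := hx
    show θ (b (θ⁻¹ x)) = x
    rw [MulAut.inv_apply_self] at hx'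
    have h1 : a (b (θ⁻¹ x)) = θ⁻¹ x := by
      apply θ.injective
      rw [hx', MulAut.apply_inv_self]
    rw [h.le' _ h1, MulAut.apply_inv_self]

theorem bapp (h : Bad a b) (x : X) : b (b x) = x := congrArg (fun φ : MulAut X => φ x) h.bb
theorem aapp (h : Bad a b) (x : X) : a (a x) = x := congrArg (fun φ : MulAut X => φ x) h.aa

end Bad

/-! ### `M12` -/

/-- test for elements commuting with three elements of order 3 -/
def tZ (l : List ℕ) : Bool :=
  !(eqW (l ++ wt1) (wt1 ++ l)) || !(eqW (l ++ wt2) (wt2 ++ l)) || eqW l [] || eqW l [1, 3]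

set_option maxRecDepth 100000 in
theorem tZ_all : cbe.all tZ = true := by decide +kernel

theorem cent_Y3 {m : H} (hm : m * (p * r) = (p * r) * m) (h1 : m * wd wt1 = wd wt1 * m)
    (h2 : m * wd wt2 = wd wt2 * m) : m = 1 ∨ m = p * r := by
  obtain ⟨l, rfl, h⟩ := cbe_check tZ_all m hm
  rw [tZ, Bool.or_eq_true, Bool.or_eq_true, Bool.or_eq_true] at h
  rcases h with ((h | h) | h) | h
  · exfalso
    have h5 : eqW (l ++ wt1) (wt1 ++ l) = true := by
      apply eqW_of_wd
      rw [wd_append, wd_append, h1]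
    rw [h5] at h
    exact Bool.noConfusion h
  · exfalso
    have h5 : eqW (l ++ wt2) (wt2 ++ l) = true := by
      apply eqW_of_wd
      rw [wd_append, wd_append, h2]
    rw [h5] at h
    exact Bool.noConfusion h
  · left; exact wd_eq h
  · right; rw [wd_eq h, wd_pr]

/-- the element `κ` of order 4 -/
def wk : List ℕ := [1, 2, 5, 0, 1, 3, 4, 3, 5, 3]

theorem wk_sq : wd wk * wd wk = (p * q * r) * (p * q * r) := by
  have h1 : p * q * r = wd [1, 2, 3] := by simp [wd, gen, mul_assoc]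
  rw [h1, ← wd_append, ← wd_append]
  exact wd_eq (by decide +kernel)

theorem isB_pqr : IsB ((p * q * r) * (p * q * r)) := by
  have h1 : p * q * r = wd [1, 2, 3] := by simp [wd, gen, mul_assoc]
  rw [h1, ← wd_append]
  exact isB_wd (m := [2]) (by decide +kernel)

theorem isB_ywk : IsB (y * wd wk) := by
  rw [← wd_y, ← wd_append]
  exact isB_wd (m := [2, 5, 0, 3, 5]) (by decide +kernel)

theorem wk_alpha : (alpha (wd wk))⁻¹ * wd wk ∈ A5 := by
  have h1 : (alpha (wd wk))⁻¹ * wd wk = p * q * p * r * q * p := by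
    rw [alpha_wd, wd_reverse, ← wd_append]
    have h2 : p * q * p * r * q * p = wd [1, 2, 1, 3, 2, 1] := by simp [wd, gen, mul_assoc]
    rw [h2]
    exact wd_eq (by decide +kernel)
  rw [h1]
  refine ⟨Equiv.swap 0 1 * Equiv.swap 1 2 * Equiv.swap 0 1 * Equiv.swap 2 3 * Equiv.swap 1 2 * Equiv.swap 0 1, ?_, ?_⟩
  · show _ ∈ alternatingGroup (Fin 5)
    rw [Equiv.Perm.mem_alternatingGroup]
    decide
  · simp only [map_mul, w_p, w_q, w_r]

theorem pq_mem : p * q ∈ A5 := by
  refine ⟨Equiv.swap 0 1 * Equiv.swap 1 2, ?_, ?_⟩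
  · show _ ∈ alternatingGroup (Fin 5)
    rw [Equiv.Perm.mem_alternatingGroup]
    decide
  · rw [map_mul, w_p, w_q]

theorem braid_pq : p * q * p = q * p * q := by
  have h := wd_eq (l := [1, 2, 1]) (l' := [2, 1, 2]) (by decide +kernel)
  simpa [wd, gen, mul_assoc] using h

theorem braid_qr : q * r * q = r * q * r := by
  have h := wd_eq (l := [2, 3, 2]) (l' := [3, 2, 3]) (by decide +kernel)
  simpa [wd, gen, mul_assoc] using h

theorem cent_A5 {m : H} (h : ∀ a ∈ A5, m * a = a * m) : m = 1 ∨ m = y :=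
  Cfsg.Agent.CoThreeStd.AutMain.cent_F0 h

theorem fix_alpha {m : H} (h : alpha m = m) : m ∈ A5 ∨ m * y ∈ A5 := by
  rw [← Cfsg.Agent.CoThreeStd.AutAlpha.c_eq] at h
  exact Cfsg.Agent.CoThreeStd.AutMain.c_fix.mp h

/-! ### the cover -/

variable {L : Type*} [Group L] {π : L →* H} {c : L}

/-- the lifts of elements of `A5` -/
theorem mem_Y5_or (hD : Dbl π c) {m : L} (h : π m ∈ A5) : m ∈ Y5 π ∨ m * c ∈ Y5 π := by
  obtain ⟨x, hx, hx'⟩ := (perf_lift hD A5_perf).2 _ h
  rcases eq_or hD hx' with h1 | h1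
  · left; rw [← h1]; exact hx
  · right; rw [← h1]; exact hx

theorem comm_lift (hD : Dbl π c) {Y m : L} (hY : π Y = y) (h : π m ∈ A5) : m * Y = Y * m := by
  rcases mem_Y5_or hD h with h1 | h1
  · exact Y5_y hD hY h1
  · have h2 := Y5_y hD hY h1
    have h3 : m * Y * c = Y * m * c := by
      calc m * Y * c = m * (Y * c) := by group
        _ = m * (c * Y) := by rw [hD.cen]
        _ = m * c * Y := by group
        _ = Y * (m * c) := h2
        _ = _ := by group
    exact mul_right_cancel h3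

variable [Finite L]

theorem Y5_fix (hD : Dbl π c) {φ : MulAut L} (h : ∀ x, π (φ x) = alpha (π x)) {x : L} (hx : x ∈ Y5 π) :
    φ x = x :=
  fix_of hD (A := A5) φ.toMonoidHom (fun m hm => by
    show π (φ m) = π m
    rw [h, A5_alpha hm]) hx

/-- `φ Y = Y⁻¹` for an involutory automorphism inducing `alpha` -/
theorem inv_Y (hD : Dbl π c) {φ : MulAut L} (h : ∀ x, π (φ x) = alpha (π x)) (h2 : φ * φ = 1) {Y : L}
    (hY : π Y = y) : φ Y = Y⁻¹ := by
  have hφφ : ∀ x, φ (φ x) = x := fun x => congrArg (fun θ : MulAut L => θ x) h2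
  obtain ⟨P, hP⟩ := hD.surj p
  obtain ⟨Z, hZd⟩ : ∃ Z, Z = φ P * P⁻¹ := ⟨_, rfl⟩
  have hZ : π Z = y := by
    rw [hZd, map_mul, map_inv, h, hP]
    have h3 : alpha p = y * p := by
      have h4 := alpha_p'
      rw [wd_cons, wd_p] at h4
      exact h4
    rw [h3, mul_inv_cancel_right]
  have hφZ : φ Z = Z⁻¹ := by rw [hZd, map_mul, map_inv, hφφ]; group
  rcases eq_or hD (hY.trans hZ.symm) with h1 | h1
  · rw [h1, hφZ]
  · rw [h1, map_mul, hφZ, map_c hD, mul_inv_rev, inv_c hD, hD.cen]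

/-- lifts of involutions of `A5` which are squares are not in `Y5` -/
theorem csq_mem (hD : Dbl π c) {K : L} (hK : π K * π K = (p * q * r) * (p * q * r)) : c * (K * K) ∈ Y5 π := by
  obtain ⟨P, hP⟩ := hD.surj p
  -- lifts with exact braid relations
  have key : ∀ (A B : L), π A * π B * π A = π B * π A * π B → A * B * A = B * A * B ∨
      A * (B * c) * A = (B * c) * A * (B * c) := by
    intro A B hAB
    rcases eq_or hD (x := A * B * A) (y := B * A * B) (by simp only [map_mul]; exact hAB) with h | h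
    · exact Or.inl h
    · right
      calc A * (B * c) * A = A * B * (c * A) := by group
        _ = A * B * A * c := by rw [hD.cen]; group
        _ = B * A * B * c * c := by rw [h]
        _ = B * A * (c * (B * c)) := by rw [← mul_assoc c, hD.cen B]; group
        _ = B * (A * c) * (B * c) := by group
        _ = B * (c * A) * (B * c) := by rw [hD.cen]
        _ = _ := by group
  have hQ : ∃ Q, π Q = q ∧ P * Q * P = Q * P * Q := by
    obtain ⟨Q, hQ⟩ := hD.surj q
    rcases key P Q (by rw [hP, hQ, braid_pq]) with h | h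
    · exact ⟨Q, hQ, h⟩
    · exact ⟨Q * c, by rw [map_mul, hQ, pc hD, mul_one], h⟩
  obtain ⟨Q, hQ, hPQ⟩ := hQ
  have hR : ∃ R, π R = r ∧ Q * R * Q = R * Q * R := by
    obtain ⟨R, hR⟩ := hD.surj r
    rcases key Q R (by rw [hQ, hR, braid_qr]) with h | h
    · exact ⟨R, hR, h⟩
    · exact ⟨R * c, by rw [map_mul, hR, pc hD, mul_one], h⟩
  obtain ⟨R, hR, hQR⟩ := hR
  have hPP : P * P = c := sqA hD (isA_of (l := [1]) (m := [5, 1, 5, 0, 2, 5, 2]) (by rw [hP, wd_p]) (by decide +kernel))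
  have hQQ : Q * Q = c := sqA hD (isA_of (l := [2]) (m := [5, 0, 5, 0, 2, 5]) (by rw [hQ, wd_q]) (by decide +kernel))
  have hRR : R * R = c := sqA hD (isA_of (l := [3]) (m := [5, 0, 5, 0, 3, 5]) (by rw [hR, wd_r]) (by decide +kernel))
  have hPR : P * R * (P * R) = 1 := sqB hD (by rw [map_mul, hP, hR]; exact isB_pr)
  have hRP : R * P = P * R := by
    have h1 := swap_eq hPP hRR hPR hD.sq hD.sq (hD.cen _) (by rw [one_mul, mul_one])
    rwa [mul_one, hD.sq, mul_one] at h1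
  -- the two elements
  have e1 : (P * Q * R) * (P * Q * R) = c * (Q * P * R * Q) := by
    calc (P * Q * R) * (P * Q * R) = P * Q * (R * P) * Q * R := by group
      _ = (P * Q * P) * (R * Q * R) := by rw [hRP]; group
      _ = (Q * P * Q) * (Q * R * Q) := by rw [hPQ, ← hQR]
      _ = Q * P * (Q * Q) * (R * Q) := by group
      _ = Q * P * (c * (R * Q)) := by rw [hQQ]; group
      _ = Q * P * ((R * Q) * c) := by rw [hD.cen]
      _ = (Q * P * R * Q) * c := by group
      _ = _ := (hD.cen _).symm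
  have e2 : ⁅P * Q, P * R⁆ = Q * P * R * Q := by
    have hPi : P⁻¹ = P * c := by
      apply inv_eq_of_mul_eq_one_right
      rw [← mul_assoc, hPP, hD.sq]
    have hQi : Q⁻¹ = Q * c := by
      apply inv_eq_of_mul_eq_one_right
      rw [← mul_assoc, hQQ, hD.sq]
    have hRi : R⁻¹ = R * c := by
      apply inv_eq_of_mul_eq_one_right
      rw [← mul_assoc, hRR, hD.sq]
    rw [commutatorElement_def, mul_inv_rev, mul_inv_rev, hPi, hQi, hRi]
    have hc : ∀ x : L, x * c = c * x := fun x => (hD.cen x).symm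
    have h1 : P * Q * (P * R) * (Q * c * (P * c)) * (R * c * (P * c)) =
        (P * Q * P) * R * Q * P * R * P := by
      have h2 : Q * c * (P * c) = Q * P := by
        calc Q * c * (P * c) = Q * (c * P) * c := by group
          _ = Q * (P * c) * c := by rw [hD.cen]
          _ = Q * P * (c * c) := by group
          _ = _ := by rw [hD.sq, mul_one]
      have h3 : R * c * (P * c) = R * P := by
        calc R * c * (P * c) = R * (c * P) * c := by group
          _ = R * (P * c) * c := by rw [hD.cen]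
          _ = R * P * (c * c) := by group
          _ = _ := by rw [hD.sq, mul_one]
      rw [h2, h3]
      group
    rw [h1]
    calc (P * Q * P) * R * Q * P * R * P = (Q * P * Q) * R * Q * (P * R) * P := by rw [hPQ]; group
      _ = (Q * P * Q) * R * Q * (R * P) * P := by rw [hRP]
      _ = Q * P * (Q * R * Q) * R * (P * P) := by group
      _ = Q * P * (R * Q * R) * R * c := by rw [hQR, hPP]
      _ = Q * P * R * Q * (R * R) * c := by group
      _ = Q * P * R * Q * (c * c) := by rw [hRR]; group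
      _ = _ := by rw [hD.sq, mul_one]
  have e3 : c * ((P * Q * R) * (P * Q * R)) ∈ Y5 π := by
    rw [e1, ← mul_assoc, hD.sq, one_mul, ← e2]
    apply Subgroup.commutator_mem_commutator
    · show π (P * Q) ∈ A5
      rw [map_mul, hP, hQ]
      exact pq_mem
    · show π (P * R) ∈ A5
      rw [map_mul, hP, hR]
      exact pr_mem
  -- all roots have the same square
  have e4 : K * K = (P * Q * R) * (P * Q * R) := by
    have h0 : π ((P * Q * R) * (P * Q * R)) = (p * q * r) * (p * q * r) := by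
      simp only [map_mul, hP, hQ, hR]
    have h1 : IsB (π (K * K)) := by rw [map_mul, hK]; exact isB_pqr
    have h2 : (K * K) * (K * K) = 1 := sqB hD h1
    have h3 : K * K ≠ 1 := fun h => by
      rw [h, map_one] at h1
      exact (inv2.invB _ h1).2 rfl
    have h4 : K * K ≠ c := fun h => by
      rw [h, pc hD] at h1
      exact (inv2.invB _ h1).2 rfl
    exact (sq_eq_of hD h2 h3 h4 (s := K) (t := P * Q * R) rfl (by
      rw [← map_mul, h0, map_mul, hK])).symm
  rw [e4]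
  exact e3

/-- **(m2) for the standard pair.** -/
theorem move_std (hD : Dbl π c) {φ : MulAut L} (h : ∀ x, π (φ x) = alpha (π x)) (h2 : φ * φ = 1) {Y : L}
    (hY : π Y = y) : ∃ k : L, (φ k)⁻¹ * k ∈ Y5 π ∧ (Y * k * Y⁻¹)⁻¹ * k ∈ Y5 π ∧ (Y * k * Y⁻¹)⁻¹ * k ≠ 1 := by
  obtain ⟨K, hK⟩ := hD.surj (wd wk)
  have hYY : Y * Y = c := sqA hD (by rw [hY]; exact isA_y)
  have hYK : Y * K * (Y * K) = 1 := sqB hD (by rw [map_mul, hY, hK]; exact isB_ywk)
  have hφY := inv_Y hD h h2 hY
  have e1 : (Y * K * Y⁻¹)⁻¹ * K = c * (K * K) := by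
    have h3 : K⁻¹ * Y⁻¹ = Y * K := by
      rw [← mul_inv_rev]
      exact inv_eq_of_mul_eq_one_left hYK
    calc (Y * K * Y⁻¹)⁻¹ * K = Y * (K⁻¹ * Y⁻¹) * K := by group
      _ = (Y * Y) * (K * K) := by rw [h3]; group
      _ = _ := by rw [hYY]
  have e2 : c * (K * K) ∈ Y5 π := csq_mem hD (by rw [hK, wk_sq])
  have e3 : c * (K * K) ≠ 1 := by
    intro h3
    have h4 : π (K * K) = 1 := by
      have := congrArg π h3
      rwa [map_mul, pc hD, one_mul, map_one] at this
    rw [map_mul, hK, wk_sq] at h4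
    have h5 := isB_pqr
    rw [h4] at h5
    exact (inv2.invB _ h5).2 rfl
  have e4 : π ((φ K)⁻¹ * K) ∈ A5 := by
    rw [map_mul, map_inv, h, hK]
    exact wk_alpha
  rcases mem_Y5_or hD e4 with h5 | h5
  · exact ⟨K, h5, by rw [e1]; exact e2, by rw [e1]; exact e3⟩
  · refine ⟨Y * K, ?_, ?_, ?_⟩
    · have h6 : (φ (Y * K))⁻¹ * (Y * K) = (φ K)⁻¹ * K * c := by
        rw [map_mul, hφY]
        calc (Y⁻¹ * φ K)⁻¹ * (Y * K) = (φ K)⁻¹ * ((Y * Y) * K) := by group
          _ = (φ K)⁻¹ * (c * K) := by rw [hYY]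
          _ = (φ K)⁻¹ * (K * c) := by rw [hD.cen]
          _ = _ := by group
      rw [h6]
      exact h5
    · have h6 : (Y * (Y * K) * Y⁻¹)⁻¹ * (Y * K) = (Y * K * Y⁻¹)⁻¹ * K := by group
      rw [h6, e1]
      exact e2
    · have h6 : (Y * (Y * K) * Y⁻¹)⁻¹ * (Y * K) = (Y * K * Y⁻¹)⁻¹ * K := by group
      rw [h6, e1]
      exact e3

/-- an inner automorphism `conj l` centralising `C(k)`, `conj k` an involution, is `1` or `conj k` -/
theorem inner_cases (hD : Dbl π c) {k l : L} (hk : MulAut.conj k * MulAut.conj k = 1)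
    (hk1 : MulAut.conj k ≠ 1) (h : ∀ x, k * x * k⁻¹ = x → l * x * l⁻¹ = x) :
    MulAut.conj l = 1 ∨ MulAut.conj l = MulAut.conj k := by
  have hker : ∀ x : L, π x = 1 → MulAut.conj x = 1 := by
    intro x hx
    apply MulEquiv.ext
    intro z
    rw [MulAut.conj_apply, MulAut.one_apply, cen_of hD ((hD.ker x).1 hx), mul_inv_cancel_right]
  have heq : ∀ x z : L, π x = π z → MulAut.conj x = MulAut.conj z := by
    intro x z hxz
    have h1 := hker (z⁻¹ * x) (by rw [map_mul, map_inv, hxz, inv_mul_cancel])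
    rw [map_mul, map_inv, inv_mul_eq_one] at h1
    exact h1.symm
  have hcomm : ∀ x, k * x = x * k → l * x = x * l := by
    intro x hx
    have := h x (by rw [hx, mul_inv_cancel_right])
    exact mul_inv_eq_iff_eq_mul.mp this
  have hkk : π k * π k = 1 := by
    apply center_H
    intro x
    obtain ⟨x, rfl⟩ := hD.surj x
    have h1 : MulAut.conj (k * k) x = x := by
      rw [map_mul, hk, MulAut.one_apply]
    rw [MulAut.conj_apply, mul_inv_eq_iff_eq_mul] at h1
    rw [← map_mul, ← map_mul, ← map_mul, h1]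
  have hk0 : π k ≠ 1 := fun h1 => hk1 (hker k h1)
  rcases inv_class (π k) hk0 hkk with hA | hB
  · -- class 2A
    obtain ⟨m, hm⟩ := hA
    obtain ⟨g, rfl⟩ := hD.surj m
    have h1 : π (g * l * g⁻¹) = 1 ∨ π (g * l * g⁻¹) = y := by
      apply cent_A5
      intro a ha
      obtain ⟨x, hx, rfl⟩ := (perf_lift hD A5_perf).2 _ ha
      obtain ⟨Y, hY⟩ := hD.surj y
      have h2 : x * (g * k * g⁻¹) = (g * k * g⁻¹) * x :=
        Y5_y hD (by rw [map_mul, map_mul, map_inv, ← hm]; group) hx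
      have h3 := hcomm (g⁻¹ * x * g) (by
        calc k * (g⁻¹ * x * g) = g⁻¹ * ((g * k * g⁻¹) * x) * g := by group
          _ = g⁻¹ * (x * (g * k * g⁻¹)) * g := by rw [h2]
          _ = _ := by group)
      rw [← map_mul, ← map_mul]
      congr 1
      calc g * l * g⁻¹ * x = g * (l * (g⁻¹ * x * g)) * g⁻¹ := by group
        _ = g * (g⁻¹ * x * g * l) * g⁻¹ := by rw [h3]
        _ = _ := by group
    rcases h1 with h1 | h1
    · left
      apply hker
      rw [map_mul, map_mul, map_inv, conj_eq_one_iff] at h1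
      exact h1
    · right
      apply heq
      rw [← hm, ← h1, map_mul, map_mul, map_inv]
      group
  · -- class 2B
    obtain ⟨m, hm⟩ := hB
    obtain ⟨g, rfl⟩ := hD.surj m
    have hg : π g * π k * (π g)⁻¹ = p * r := by rw [← hm]; group
    have hl : l * k = k * l := hcomm k rfl
    have hT : ∀ {t : H}, t ^ 3 = 1 → t * (p * r) = p * r * t →
        (π g * π l * (π g)⁻¹) * t = t * (π g * π l * (π g)⁻¹) := by
      intro t ht htc
      obtain ⟨T, h1, -, h2⟩ := lift_cube hD hg ht htc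
      have h3 := congrArg π (hcomm T h1.symm)
      rw [map_mul, map_mul, h2] at h3
      calc π g * π l * (π g)⁻¹ * t = π g * (π l * ((π g)⁻¹ * t * π g)) * (π g)⁻¹ := by group
        _ = π g * ((π g)⁻¹ * t * π g * π l) * (π g)⁻¹ := by rw [h3]
        _ = _ := by group
    have h0 : (π g * π l * (π g)⁻¹) * (p * r) = (p * r) * (π g * π l * (π g)⁻¹) := by
      rw [← hg]
      have h1 := congrArg π hl
      rw [map_mul, map_mul] at h1
      calc π g * π l * (π g)⁻¹ * (π g * π k * (π g)⁻¹) = π g * (π l * π k) * (π g)⁻¹ := by group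
        _ = π g * (π k * π l) * (π g)⁻¹ := by rw [h1]
        _ = _ := by group
    rcases cent_Y3 h0 (hT wt1_cube wt1_comm) (hT wt2_cube wt2_comm) with h1 | h1
    · left
      apply hker
      rwa [conj_eq_one_iff] at h1
    · right
      apply heq
      rw [← hm, ← h1]
      group

/-- **(m1)** a bad pair is not inner. -/
theorem bad_inner (hD : Dbl π c) {a b : MulAut L} (h : Bad a b) (ha : a ∈ (MulAut.conj : L →* MulAut L).range)
    (hb : b ∈ (MulAut.conj : L →* MulAut L).range) : False := by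
  obtain ⟨k, rfl⟩ := ha
  obtain ⟨l, rfl⟩ := hb
  rcases inner_cases hD h.aa h.a1 (fun x hx => h.le x hx) with h1 | h1
  · exact h.b1 h1
  · exact h.ne h1.symm

/-- an automorphism normalised to induce `alpha` -/
theorem exists_θ (hD : Dbl π c) {φ : MulAut L} (h : φ ∉ (MulAut.conj : L →* MulAut L).range) (h2 : φ * φ = 1) :
    ∃ K : L, ∀ x, π ((MulAut.conj K * φ * (MulAut.conj K)⁻¹ : MulAut L) x) = alpha (π x) := by
  obtain ⟨K, hK⟩ := exists_K hD h h2
  refine ⟨K, fun x => ?_⟩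
  rw [← hK]
  rw [← map_inv]
  show π (K * φ (K⁻¹ * x * K⁻¹⁻¹) * K⁻¹) = _
  rw [inv_inv]

/-- in a bad pair `b` is inner -/
theorem Bad.inner_b (hD : Dbl π c) {a b : MulAut L} (h : Bad a b) : b ∈ (MulAut.conj : L →* MulAut L).range := by
  by_contra hb
  obtain ⟨K, hK⟩ := exists_θ hD hb h.bb
  have h' := h.conj (MulAut.conj K)
  obtain ⟨a', ha'⟩ : ∃ a', a' = MulAut.conj K * a * (MulAut.conj K)⁻¹ := ⟨_, rfl⟩
  obtain ⟨b', hb'⟩ : ∃ b', b' = MulAut.conj K * b * (MulAut.conj K)⁻¹ := ⟨_, rfl⟩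
  rw [← ha', ← hb'] at h'
  rw [← hb'] at hK
  have hbn : b' ∉ (MulAut.conj : L →* MulAut L).range := by
    intro h1
    apply hb
    have h2 : b = (MulAut.conj K)⁻¹ * b' * MulAut.conj K := by rw [hb']; group
    rw [h2]
    exact mul_mem (mul_mem (inv_mem ⟨K, rfl⟩) h1) ⟨K, rfl⟩
  -- an inner automorphism `conj k` with `C(k) ≤ C(b')`
  have key : ∃ k : L, ∀ x, k * x * k⁻¹ = x → b' x = x := by
    by_cases h1 : a' ∈ (MulAut.conj : L →* MulAut L).range
    · obtain ⟨k, hk⟩ := h1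
      refine ⟨k, fun x hx => h'.le x ?_⟩
      rw [← hk]
      exact hx
    · obtain ⟨k, hk⟩ := out hD a' b' h1 hbn
      refine ⟨k, fun x hx => h'.le' x ?_⟩
      have : (a' * b') x = x := by
        rw [← hk]
        exact hx
      exact this
  obtain ⟨k, hk⟩ := key
  have hkk : b' k = k := hk k (by rw [mul_inv_cancel_right])
  have h1 : alpha (π k) = π k := by rw [← hK, hkk]
  obtain ⟨Y, hY⟩ := hD.surj y
  have hkY : k * Y = Y * k := by
    rcases fix_alpha h1 with h2 | h2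
    · exact comm_lift hD hY h2
    · have h3 := comm_lift hD hY (m := k * Y) (by rw [map_mul, hY]; exact h2)
      have h4 : k * Y * Y = (Y * k) * Y := by rw [h3]; group
      exact mul_right_cancel h4
  have h2 := hk Y (by rw [hkY, mul_inv_cancel_right])
  rw [inv_Y hD hK h'.bb hY] at h2
  have hYY : Y * Y = c := sqA hD (by rw [hY]; exact isA_y)
  apply hD.ne
  rw [← hYY]
  nth_rewrite 1 [← h2]
  rw [inv_mul_cancel]

/-- **(m2)** -/
theorem bad_move (hD : Dbl π c) {a b : MulAut L} (h : Bad a b) : ∃ (k : L) (Y : Subgroup L), ⁅Y, Y⁆ = Y ∧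
    (∀ x ∈ Y, a x = x ∧ b x = x) ∧ (a k)⁻¹ * k ∈ Y ∧ (b k)⁻¹ * k ∈ Y ∧ (b k)⁻¹ * k ≠ 1 := by
  have hb := h.inner_b hD
  have ha : a ∉ (MulAut.conj : L →* MulAut L).range := fun ha => bad_inner hD h ha hb
  obtain ⟨K, hK⟩ := exists_θ hD ha h.aa
  obtain ⟨θ, hθ⟩ : ∃ θ : MulAut L, θ = MulAut.conj K := ⟨_, rfl⟩
  rw [← hθ] at hK
  have h' := h.conj θ
  obtain ⟨l, hl⟩ : θ * b * θ⁻¹ ∈ (MulAut.conj : L →* MulAut L).range := by
    obtain ⟨l, rfl⟩ := hb
    exact ⟨K * l * K⁻¹, by rw [hθ, map_mul, map_mul, map_inv]⟩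
  -- `l` centralises `Y5`
  have h1 : π l = 1 ∨ π l = y := by
    apply cent_A5
    intro f hf
    obtain ⟨x, hx, rfl⟩ := (perf_lift hD A5_perf).2 _ hf
    have h2 := h'.le x (Y5_fix hD hK hx)
    rw [← hl, MulAut.conj_apply, mul_inv_eq_iff_eq_mul] at h2
    rw [← map_mul, ← map_mul, h2]
  have hly : π l = y := by
    refine h1.resolve_left fun h2 => h'.b1 ?_
    rw [← hl]
    apply MulEquiv.ext
    intro z
    rw [MulAut.conj_apply, MulAut.one_apply, cen_of hD ((hD.ker l).1 h2), mul_inv_cancel_right]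
  obtain ⟨k, e1, e2, e3⟩ := move_std hD hK h'.aa hly
  have ea : ∀ x, θ (a (θ⁻¹ x)) = (θ * a * θ⁻¹) x := fun _ => rfl
  have eb : ∀ x, θ (b (θ⁻¹ x)) = l * x * l⁻¹ := fun x => by
    rw [← MulAut.conj_apply, hl]
    rfl
  have ea' : ∀ x, a (θ⁻¹ x) = θ⁻¹ ((θ * a * θ⁻¹) x) := fun x => by
    rw [← ea, MulAut.inv_apply_self]
  have eb' : ∀ x, b (θ⁻¹ x) = θ⁻¹ (l * x * l⁻¹) := fun x => by
    rw [← eb, MulAut.inv_apply_self]
  refine ⟨θ⁻¹ k, (Y5 π).map (θ⁻¹ : MulAut L).toMonoidHom, perf_map' (Y5_perf hD) _, ?_, ?_, ?_, ?_⟩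
  · rintro _ ⟨x, hx, rfl⟩
    constructor
    · show a (θ⁻¹ x) = θ⁻¹ x
      rw [ea', Y5_fix hD hK hx]
    · show b (θ⁻¹ x) = θ⁻¹ x
      rw [eb', ← Y5_y hD hly hx, mul_inv_cancel_right]
  · refine ⟨((θ * a * θ⁻¹ : MulAut L) k)⁻¹ * k, e1, ?_⟩
    show θ⁻¹ (((θ * a * θ⁻¹ : MulAut L) k)⁻¹ * k) = _
    rw [map_mul, map_inv, ea']
  · refine ⟨(l * k * l⁻¹)⁻¹ * k, e2, ?_⟩
    show θ⁻¹ ((l * k * l⁻¹)⁻¹ * k) = _
    rw [map_mul, map_inv, eb']
  · intro h2
    apply e3
    rw [eb', ← map_inv, ← map_mul] at h2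
    exact (map_eq_one_iff _ (θ⁻¹ : MulAut L).injective).mp h2

/-- **(P2)** -/
theorem sqDiff (hD : Dbl π c) {a : MulAut L} (haa : a * a = 1) (ha1 : a ≠ 1) :
    ∃ x : L, (a x)⁻¹ * x ∉ Subgroup.center L ∧ ((a x)⁻¹ * x) * ((a x)⁻¹ * x) = 1 := by
  have hcen : ∀ x : L, π x ≠ 1 → x ∉ Subgroup.center L := by
    intro x hx h1
    apply hx
    rw [hD.ker]
    exact (mem_center hD x).1 fun z => (Subgroup.mem_center_iff.mp h1 z).symm
  have hBc : ∀ x : L, IsB (π x) → x ∉ Subgroup.center L ∧ x * x = 1 := fun x hx =>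
    ⟨hcen x (inv2.invB _ hx).2, sqB hD hx⟩
  by_cases ha : a ∈ (MulAut.conj : L →* MulAut L).range
  · obtain ⟨k, rfl⟩ := ha
    have hkk : π k * π k = 1 := by
      apply center_H
      intro x
      obtain ⟨x, rfl⟩ := hD.surj x
      have h1 : MulAut.conj (k * k) x = x := by
        rw [map_mul, haa, MulAut.one_apply]
      rw [MulAut.conj_apply, mul_inv_eq_iff_eq_mul] at h1
      rw [← map_mul, ← map_mul, ← map_mul, h1]
    have hk0 : π k ≠ 1 := by
      intro h1
      apply ha1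
      apply MulEquiv.ext
      intro z
      rw [MulAut.conj_apply, MulAut.one_apply, cen_of hD ((hD.ker k).1 h1), mul_inv_cancel_right]
    -- it is enough to find `x` with the right image
    have key : ∀ (g : L) (t : H), IsB ((π g * π k * (π g)⁻¹) * t⁻¹ * (π g * π k * (π g)⁻¹)⁻¹ * t) →
        ∃ x : L, (MulAut.conj k x)⁻¹ * x ∉ Subgroup.center L ∧
          ((MulAut.conj k x)⁻¹ * x) * ((MulAut.conj k x)⁻¹ * x) = 1 := by
      intro g t ht
      obtain ⟨T, rfl⟩ := hD.surj t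
      refine ⟨g⁻¹ * T * g, hBc _ ?_⟩
      rw [MulAut.conj_apply]
      have h1 := ht.conj (π g)
      have h2 : π ((k * (g⁻¹ * T * g) * k⁻¹)⁻¹ * (g⁻¹ * T * g)) =
          (π g)⁻¹ * ((π g * π k * (π g)⁻¹) * (π T)⁻¹ * (π g * π k * (π g)⁻¹)⁻¹ * π T) * π g := by
        simp only [map_mul, map_inv]
        group
      rw [h2]
      exact h1
    rcases inv_class (π k) hk0 hkk with hA | hB
    · obtain ⟨m, hm⟩ := hA
      obtain ⟨g, rfl⟩ := hD.surj m
      apply key g (wd wk)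
      have h1 : π g * π k * (π g)⁻¹ = y := by rw [← hm]; group
      rw [h1, wd_reverse, ← wd_y, wd_reverse, ← wd_append, ← wd_append, ← wd_append]
      exact isB_wd (m := [2]) (by decide +kernel)
    · obtain ⟨m, hm⟩ := hB
      obtain ⟨g, rfl⟩ := hD.surj m
      apply key g (wd [2])
      have h1 : π g * π k * (π g)⁻¹ = p * r := by rw [← hm]; group
      rw [h1, wd_reverse, ← wd_pr, wd_reverse, ← wd_append, ← wd_append, ← wd_append]
      exact isB_wd (m := [2, 1]) (by decide +kernel)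
  · obtain ⟨K, hK⟩ := exists_K hD ha haa
    obtain ⟨x, hx, hx'⟩ := (perf_lift hD A5_perf).2 _ pr_mem
    have hB : IsB (π (K⁻¹ * x * K)) := by
      rw [map_mul, map_mul, map_inv, hx']
      exact isB_pr.conj _
    have hfix : a (K⁻¹ * x * K) = K⁻¹ * x * K := by
      have h3 := fix_of hD (A := A5) ((MulAut.conj K * a * MulAut.conj K⁻¹ : MulAut L).toMonoidHom) (fun m hm => by
        show π (K * a (K⁻¹ * m * K⁻¹⁻¹) * K⁻¹) = π m
        rw [inv_inv, hK, A5_alpha hm]) hx
      have h4 : K * a (K⁻¹ * x * K⁻¹⁻¹) * K⁻¹ = x := h3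
      rw [inv_inv] at h4
      conv_rhs => rw [← h4]
      group
    obtain ⟨h5, h6⟩ := hBc _ hB
    obtain ⟨n, hn⟩ := o_conj hD ha haa (K⁻¹ * x * K) (by rw [hfix, h6])
    refine ⟨n⁻¹, ?_⟩
    have h7 : (a n⁻¹)⁻¹ * n⁻¹ = K⁻¹ * x * K := by rw [map_inv, inv_inv, hn]
    rw [h7]
    exact ⟨h5, h6⟩

end Cfsg.Agent.OddHalf.D9.TwoM12
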