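import Cfsg.Agent.OddHalf.D9.TwoM12.Fields
import Cfsg.Agent.OddHalf.Table.OutMTwelve

/-!
# Perfect double covers of `M12`: centre, `A5`-subgroups, automorphisms
-/

set_option autoImplicit false
open scoped Pointwise commutatorElement
open Cfsg

namespace Cfsg.Agent.OddHalf.D9.TwoM12

open Cfsg.Agent.CoThreeStd.MTwelve Cfsg.Agent.CoThreeStd.InvTwo Cfsg.Agent.CoThreeStd.OutAut
open Cfsg.Agent.KFacts.MulTwo Cfsg.Agent.KFacts.MulDef
open Cfsg.Agent.OddHalf.Table.OutMTwelve (al mem_or_mem al_mul_al)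

/-! ### `M12` -/

theorem center_H (h : H) (hh : ∀ x, h * x = x * h) : h = 1 := by
  obtain ⟨σ, h1⟩ := cent_y h (hh y)
  have key : ∀ τ, w σ * w τ = w τ * w σ := by
    intro τ
    have h2 := hh (w τ)
    rcases h1 with h1 | h1
    · rw [h1] at h2; exact h2
    · rw [h1] at h2
      have h3 : y * (w σ * w τ) = y * (w τ * w σ) := by
        calc y * (w σ * w τ) = y * w σ * w τ := by group
          _ = w τ * (y * w σ) := h2
          _ = (w τ * y) * w σ := by group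
          _ = (y * w τ) * w σ := by rw [y_comm]
          _ = _ := by group
      exact mul_left_cancel h3
  have h2 : σ = 1 := by
    apply perm5_central
    intro τ
    apply w_injective
    rw [map_mul, map_mul]
    exact key τ
  rw [h2, map_one, mul_one] at h1
  rcases h1 with h1 | h1
  · exact h1
  · exfalso
    have h3 := hh b
    rw [h1, ← wd_y, ← wd_b, ← wd_append, ← wd_append] at h3
    have h4 := eqW_of_wd h3
    have h5 : eqW ([0] ++ [5]) ([5] ++ [0]) = false := by decide +kernel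
    rw [h5] at h4
    exact Bool.noConfusion h4

/-- `|Out M12| ≤ 2` -/
theorem out12 (φ ψ : MulAut H) (hφ : φ ∉ (MulAut.conj : H →* MulAut H).range)
    (hψ : ψ ∉ (MulAut.conj : H →* MulAut H).range) : φ * ψ ∈ (MulAut.conj : H →* MulAut H).range := by
  obtain ⟨a, ha⟩ := (mem_or_mem φ).resolve_left hφ
  obtain ⟨b, hb⟩ := (mem_or_mem ψ).resolve_left hψ
  have h1 : φ = al * MulAut.conj a := by rw [ha, ← mul_assoc, al_mul_al, one_mul]
  have h2 : ψ = al * MulAut.conj b := by rw [hb, ← mul_assoc, al_mul_al, one_mul]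
  refine ⟨al a * b, ?_⟩
  rw [h1, h2]
  apply MulEquiv.ext
  intro u
  simp only [MulAut.mul_apply, MulAut.conj_apply, map_mul, map_inv]
  have h3 : ∀ v : H, al (al v) = v := alpha_alpha
  simp only [h3, mul_inv_rev, mul_assoc]

/-- the outer involutory automorphisms are conjugate -/
theorem conj_al (β : MulAut H) (hβ : β ∉ (MulAut.conj : H →* MulAut H).range) (hβ2 : β * β = 1) :
    ∃ k : H, ∀ x, k * β (k⁻¹ * x * k) * k⁻¹ = alpha x := by
  obtain ⟨a, ha⟩ := (mem_or_mem β).resolve_left hβ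
  have h1 : β = al * MulAut.conj a := by rw [ha, ← mul_assoc, al_mul_al, one_mul]
  have h2 : ∀ x, β x = alpha a * alpha x * (alpha a)⁻¹ := by
    intro x
    rw [h1]
    show alpha (a * x * a⁻¹) = _
    rw [map_mul, map_mul, map_inv]
  have h4 : alpha a * a = 1 := by
    apply center_H
    intro x
    have h5 : β (β x) = x := congrArg (fun φ : MulAut H => φ x) hβ2
    rw [h2, h2, map_mul, map_mul, map_inv, alpha_alpha, alpha_alpha] at h5
    calc alpha a * a * x = (alpha a * (a * x * a⁻¹) * (alpha a)⁻¹) * (alpha a * a) := by group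
      _ = x * (alpha a * a) := by rw [h5]
  have h3 : alpha (alpha a) * alpha a = 1 := by
    rw [alpha_alpha]
    have h5 : alpha a = a⁻¹ := eq_inv_of_mul_eq_one_left h4
    rw [h5, mul_inv_cancel]
  obtain ⟨n, hn⟩ := twisted (alpha a) h3
  refine ⟨alpha n, ?_⟩
  intro x
  rw [h2, map_mul, map_mul, map_inv, alpha_alpha, hn]
  group

/-- the `A5` in the centraliser of `y` -/
noncomputable def A5 : Subgroup H := (alternatingGroup (Fin 5)).map w

theorem A5_perf : ⁅A5, A5⁆ = A5 := by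
  rw [A5, ← Subgroup.map_commutator, commutator_alternatingGroup_eq_self (by simp)]

theorem A5_y {a : H} (ha : a ∈ A5) : y * a = a * y := by
  obtain ⟨σ, -, rfl⟩ := ha
  exact y_comm σ

theorem A5_alpha {a : H} (ha : a ∈ A5) : alpha a = a := by
  obtain ⟨σ, hσ, rfl⟩ := ha
  exact alpha_even (Equiv.Perm.mem_alternatingGroup.mp hσ)

theorem pr_mem : p * r ∈ A5 := by
  refine ⟨Equiv.swap 0 1 * Equiv.swap 2 3, ?_, ?_⟩
  · show _ ∈ alternatingGroup (Fin 5)
    rw [Equiv.Perm.mem_alternatingGroup]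
    decide
  · rw [map_mul, w_p, w_r]

/-! ### general double covers -/

section gen

variable {L X : Type*} [Group L] [Group X] {π : L →* X} {c : L}

theorem comm_c {a b m n : L} (ha : ∀ x : L, a * x = x * a) (hb : ∀ x : L, b * x = x * b) :
    ⁅m * a, n * b⁆ = ⁅m, n⁆ := by
  rw [commutatorElement_def, commutatorElement_def]
  have ha' : ∀ x : L, a⁻¹ * x = x * a⁻¹ := fun x => by
    rw [inv_mul_eq_iff_eq_mul, ← mul_assoc, ha, mul_inv_cancel_right]
  calc m * a * (n * b) * (m * a)⁻¹ * (n * b)⁻¹ = m * (a * (n * b)) * (m * a)⁻¹ * (n * b)⁻¹ := by group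
    _ = m * (n * b * a) * (m * a)⁻¹ * (n * b)⁻¹ := by rw [ha]
    _ = m * n * (b * m⁻¹) * b⁻¹ * n⁻¹ := by group
    _ = m * n * (m⁻¹ * b) * b⁻¹ * n⁻¹ := by rw [hb]
    _ = _ := by group

/-- the perfect lift of a perfect subgroup -/
theorem perf_lift (hD : Dbl π c) {A : Subgroup X} (hA : ⁅A, A⁆ = A) :
    ⁅⁅A.comap π, A.comap π⁆, ⁅A.comap π, A.comap π⁆⁆ = ⁅A.comap π, A.comap π⁆ ∧
      ∀ a ∈ A, ∃ x ∈ ⁅A.comap π, A.comap π⁆, π x = a := by
  have h1 : ∀ a ∈ A, ∃ x ∈ ⁅A.comap π, A.comap π⁆, π x = a := by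
    intro a ha
    have h2 : (⁅A.comap π, A.comap π⁆).map π = A := by
      rw [Subgroup.map_commutator, Subgroup.map_comap_eq_self_of_surjective hD.surj, hA]
    have h3 : a ∈ (⁅A.comap π, A.comap π⁆).map π := by rw [h2]; exact ha
    exact h3
  refine ⟨le_antisymm (Subgroup.commutator_mono ?_ ?_) ?_, h1⟩
  · rw [Subgroup.commutator_le]
    intro a ha b hb
    rw [commutatorElement_def]
    exact mul_mem (mul_mem (mul_mem ha hb) (inv_mem ha)) (inv_mem hb)
  · rw [Subgroup.commutator_le]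
    intro a ha b hb
    rw [commutatorElement_def]
    exact mul_mem (mul_mem (mul_mem ha hb) (inv_mem ha)) (inv_mem hb)
  · rw [Subgroup.commutator_le]
    intro a ha b hb
    obtain ⟨a', ha', ha''⟩ := h1 _ (Subgroup.mem_comap.mp ha)
    obtain ⟨b', hb', hb''⟩ := h1 _ (Subgroup.mem_comap.mp hb)
    have e1 : ∃ u : L, (u = 1 ∨ u = c) ∧ a = a' * u := by
      rcases eq_or hD ha''.symm with h | h
      · exact ⟨1, Or.inl rfl, by rw [mul_one]; exact h⟩
      · exact ⟨c, Or.inr rfl, h⟩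
    have e2 : ∃ u : L, (u = 1 ∨ u = c) ∧ b = b' * u := by
      rcases eq_or hD hb''.symm with h | h
      · exact ⟨1, Or.inl rfl, by rw [mul_one]; exact h⟩
      · exact ⟨c, Or.inr rfl, h⟩
    obtain ⟨u, hu, rfl⟩ := e1
    obtain ⟨v, hv, rfl⟩ := e2
    rw [comm_c (cen_of hD hu) (cen_of hD hv)]
    exact Subgroup.commutator_mem_commutator ha' hb'

/-- homomorphisms acting trivially modulo `c` fix the perfect lift -/
theorem fix_of (hD : Dbl π c) {A : Subgroup X} (φ : L →* L) (h : ∀ m, π m ∈ A → π (φ m) = π m) {x : L}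
    (hx : x ∈ ⁅A.comap π, A.comap π⁆) : φ x = x := by
  have h1 : ⁅A.comap π, A.comap π⁆ ≤ φ.eqLocus (MonoidHom.id L) := by
    rw [Subgroup.commutator_le]
    intro a ha b hb
    show φ ⁅a, b⁆ = ⁅a, b⁆
    rw [map_commutatorElement]
    have e : ∀ m, π m ∈ A → ∃ u : L, (u = 1 ∨ u = c) ∧ φ m = m * u := by
      intro m hm
      rcases eq_or hD (h m hm) with h | h
      · exact ⟨1, Or.inl rfl, by rw [mul_one]; exact h⟩
      · exact ⟨c, Or.inr rfl, h⟩
    obtain ⟨u, hu, hu'⟩ := e a ha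
    obtain ⟨v, hv, hv'⟩ := e b hb
    rw [hu', hv', comm_c (cen_of hD hu) (cen_of hD hv)]
  exact h1 hx

end gen

/-! ### the cover -/

variable {L : Type*} [Group L] {π : L →* H} {c : L}

theorem mem_center (hD : Dbl π c) (x : L) : (∀ z, x * z = z * x) ↔ x = 1 ∨ x = c := by
  constructor
  · intro h
    apply (hD.ker x).1
    apply center_H
    intro z
    obtain ⟨z, rfl⟩ := hD.surj z
    rw [← map_mul, ← map_mul, h]
  · intro h z
    exact cen_of hD h z

theorem map_c (hD : Dbl π c) (φ : MulAut L) : φ c = c := by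
  have h1 := (mem_center hD (φ c)).1 (fun z => by
    have := congrArg φ (hD.cen (φ.symm z))
    rwa [map_mul, map_mul, MulEquiv.apply_symm_apply] at this)
  refine h1.resolve_left fun h2 => hD.ne ?_
  exact φ.injective (h2.trans (map_one φ).symm)

/-- the homomorphism induced by an automorphism -/
noncomputable def barH (hD : Dbl π c) (φ : MulAut L) : H →* H :=
  MonoidHom.liftOfSurjective π hD.surj ⟨π.comp φ.toMonoidHom, fun x hx => by
    rw [MonoidHom.mem_ker] at hx ⊢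
    show π (φ x) = 1
    rcases (hD.ker x).1 hx with rfl | rfl
    · rw [map_one, map_one]
    · rw [map_c hD, pc hD]⟩

theorem barH_apply (hD : Dbl π c) (φ : MulAut L) (x : L) : barH hD φ (π x) = π (φ x) :=
  MonoidHom.liftOfRightInverse_comp_apply π _ _ _ x

/-- the automorphism induced by an automorphism -/
noncomputable def bar (hD : Dbl π c) (φ : MulAut L) : MulAut H :=
  MulEquiv.ofBijective (barH hD φ) (by
    have h1 : Function.Surjective (barH hD φ) := by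
      intro h
      obtain ⟨x, rfl⟩ := hD.surj h
      exact ⟨π (φ.symm x), by rw [barH_apply, MulEquiv.apply_symm_apply]⟩
    exact ⟨Finite.injective_iff_surjective.2 h1, h1⟩)

theorem bar_apply (hD : Dbl π c) (φ : MulAut L) (x : L) : bar hD φ (π x) = π (φ x) := barH_apply hD φ x

theorem bar_mul (hD : Dbl π c) (φ ψ : MulAut L) : bar hD (φ * ψ) = bar hD φ * bar hD ψ := by
  apply MulEquiv.ext
  intro h
  obtain ⟨x, rfl⟩ := hD.surj h
  rw [MulAut.mul_apply, bar_apply, bar_apply, bar_apply, MulAut.mul_apply]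

theorem bar_one (hD : Dbl π c) : bar hD 1 = 1 := by
  apply MulEquiv.ext
  intro h
  obtain ⟨x, rfl⟩ := hD.surj h
  rw [bar_apply, MulAut.one_apply, MulAut.one_apply]

theorem eq_one_of_bar (hD : Dbl π c) (φ : MulAut L) (h : ∀ x, π (φ x) = π x) : φ = 1 := by
  apply MulEquiv.ext
  intro x
  have h1 : x ∈ ⁅(⊤ : Subgroup H).comap π, (⊤ : Subgroup H).comap π⁆ := by
    rw [Subgroup.comap_top, ← commutator_def, hD.perf]
    trivial
  exact fix_of hD φ.toMonoidHom (fun m _ => h m) h1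

theorem inner_of_bar (hD : Dbl π c) (φ : MulAut L) (h : bar hD φ ∈ (MulAut.conj : H →* MulAut H).range) :
    φ ∈ (MulAut.conj : L →* MulAut L).range := by
  obtain ⟨k, hk⟩ := h
  obtain ⟨g, rfl⟩ := hD.surj k
  have h1 : (MulAut.conj g)⁻¹ * φ = 1 := by
    apply eq_one_of_bar hD
    intro x
    rw [← map_inv, MulAut.mul_apply, MulAut.conj_apply, inv_inv, map_mul, map_mul, ← bar_apply hD, ← hk,
      MulAut.conj_apply, map_inv]
    group
  exact ⟨g, by rwa [inv_mul_eq_one] at h1⟩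

theorem out (hD : Dbl π c) (φ ψ : MulAut L) (hφ : φ ∉ (MulAut.conj : L →* MulAut L).range)
    (hψ : ψ ∉ (MulAut.conj : L →* MulAut L).range) : φ * ψ ∈ (MulAut.conj : L →* MulAut L).range := by
  apply inner_of_bar hD
  rw [bar_mul]
  exact out12 _ _ (fun h => hφ (inner_of_bar hD φ h)) (fun h => hψ (inner_of_bar hD ψ h))

variable [Finite L]

/-- the perfect lift of `A5` -/
noncomputable def Y5 (π : L →* H) : Subgroup L := ⁅A5.comap π, A5.comap π⁆

omit [Finite L] in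
theorem Y5_perf (hD : Dbl π c) : ⁅Y5 π, Y5 π⁆ = Y5 π := (perf_lift hD A5_perf).1

theorem Y5_inv (hD : Dbl π c) : ∃ x ∈ Y5 π, x ≠ 1 ∧ x * x = 1 := by
  obtain ⟨x, hx, hx'⟩ := (perf_lift hD A5_perf).2 _ pr_mem
  refine ⟨x, hx, ?_, sqB hD (isB_pr' hx')⟩
  rintro rfl
  rw [map_one] at hx'
  exact pr_ne hx'.symm

omit [Finite L] in
theorem Y5_y (hD : Dbl π c) {Y x : L} (hY : π Y = y) (hx : x ∈ Y5 π) : x * Y = Y * x := by
  have h1 := fix_of hD (A := A5) (MulAut.conj Y).toMonoidHom (fun m hm => by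
    show π (Y * m * Y⁻¹) = π m
    rw [map_mul, map_mul, map_inv, hY, A5_y hm, mul_inv_cancel_right]) hx
  have h2 : Y * x * Y⁻¹ = x := h1
  rw [mul_inv_eq_iff_eq_mul] at h2
  exact h2.symm

theorem perf_map' {G G' : Type*} [Group G] [Group G'] {A : Subgroup G} (h : ⁅A, A⁆ = A) (f : G →* G') :
    ⁅A.map f, A.map f⁆ = A.map f := by
  rw [← Subgroup.map_commutator, h]

theorem v_perf (hD : Dbl π c) {k : L} (hk : k * k = c) : ∃ Y : Subgroup L, ⁅Y, Y⁆ = Y ∧
    (∀ z ∈ Y, z * k = k * z) ∧ ∃ x ∈ Y, x ≠ 1 ∧ x * x = 1 := by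
  obtain ⟨Y, hY⟩ := hD.surj y
  obtain ⟨g, rfl⟩ := v_conj hD (sqA hD (by rw [hY]; exact isA_y)) hk
  obtain ⟨x, hx, hx1, hxx⟩ := Y5_inv hD
  refine ⟨(Y5 π).map (MulAut.conj g).toMonoidHom, perf_map' (Y5_perf hD) _, ?_, g * x * g⁻¹, ⟨x, hx, rfl⟩,
    fun h => hx1 (conj_eq_one_iff.mp h), ?_⟩
  · rintro _ ⟨z, hz, rfl⟩
    show g * z * g⁻¹ * (g * Y * g⁻¹) = g * Y * g⁻¹ * (g * z * g⁻¹)
    calc g * z * g⁻¹ * (g * Y * g⁻¹) = g * (z * Y) * g⁻¹ := by group
      _ = g * (Y * z) * g⁻¹ := by rw [Y5_y hD hY hz]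
      _ = _ := by group
  · calc g * x * g⁻¹ * (g * x * g⁻¹) = g * (x * x) * g⁻¹ := by group
      _ = 1 := by rw [hxx]; group

/-- an outer involutory automorphism inducing `alpha` after conjugation -/
theorem exists_K (hD : Dbl π c) {φ : MulAut L} (h : φ ∉ (MulAut.conj : L →* MulAut L).range) (h2 : φ * φ = 1) :
    ∃ K : L, ∀ x, π (K * φ (K⁻¹ * x * K) * K⁻¹) = alpha (π x) := by
  obtain ⟨k, hk⟩ := conj_al (bar hD φ) (fun h' => h (inner_of_bar hD φ h')) (by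
    rw [← bar_mul, h2, bar_one])
  obtain ⟨K, rfl⟩ := hD.surj k
  refine ⟨K, fun x => ?_⟩
  rw [← hk, map_mul, map_mul, map_inv, ← bar_apply hD, map_mul (f := π), map_mul (f := π), map_inv]

theorem o_perf (hD : Dbl π c) {φ : MulAut L} (h : φ ∉ (MulAut.conj : L →* MulAut L).range) (h2 : φ * φ = 1) :
    ∃ Y : Subgroup L, ⁅Y, Y⁆ = Y ∧ (∀ z ∈ Y, φ z = z) ∧ ∃ x ∈ Y, x ≠ 1 ∧ x * x = 1 := by
  obtain ⟨K, hK⟩ := exists_K hD h h2
  obtain ⟨x, hx, hx1, hxx⟩ := Y5_inv hD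
  refine ⟨(Y5 π).map (MulAut.conj K⁻¹).toMonoidHom, perf_map' (Y5_perf hD) _, ?_, K⁻¹ * x * K⁻¹⁻¹, ⟨x, hx, rfl⟩,
    fun h => hx1 (conj_eq_one_iff.mp h), ?_⟩
  · rintro _ ⟨z, hz, rfl⟩
    have h3 := fix_of hD (A := A5) ((MulAut.conj K * φ * MulAut.conj K⁻¹ : MulAut L).toMonoidHom) (fun m hm => by
      show π (K * φ (K⁻¹ * m * K⁻¹⁻¹) * K⁻¹) = π m
      rw [inv_inv, hK, A5_alpha hm]) hz
    have h4 : K * φ (K⁻¹ * z * K⁻¹⁻¹) * K⁻¹ = z := h3
    show φ (K⁻¹ * z * K⁻¹⁻¹) = K⁻¹ * z * K⁻¹⁻¹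
    conv_rhs => rw [← h4]
    group
  · calc K⁻¹ * x * K⁻¹⁻¹ * (K⁻¹ * x * K⁻¹⁻¹) = K⁻¹ * (x * x) * K := by group
      _ = 1 := by rw [hxx]; group

theorem o_conj (hD : Dbl π c) {φ : MulAut L} (h : φ ∉ (MulAut.conj : L →* MulAut L).range) (h2 : φ * φ = 1)
    (m : L) (hm : φ m * m = 1) : ∃ n, m = φ n * n⁻¹ := by
  obtain ⟨K, hK⟩ := exists_K hD h h2
  obtain ⟨ψ, hψ⟩ : ∃ ψ : MulAut L, ψ = MulAut.conj K * φ * MulAut.conj K⁻¹ := ⟨_, rfl⟩
  have hψa : ∀ x, ψ x = K * φ (K⁻¹ * x * K) * K⁻¹ := by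
    intro x
    rw [hψ]
    show K * φ (K⁻¹ * x * K⁻¹⁻¹) * K⁻¹ = _
    rw [inv_inv]
  have hπ : ∀ x, π (ψ x) = alpha (π x) := fun x => by rw [hψa, hK]
  have hφφ : ∀ x, φ (φ x) = x := fun x => congrArg (fun θ : MulAut L => θ x) h2
  have hψψ : ∀ x, ψ (ψ x) = x := by
    intro x
    rw [hψa, hψa]
    have h3 : K⁻¹ * (K * φ (K⁻¹ * x * K) * K⁻¹) * K = φ (K⁻¹ * x * K) := by group
    rw [h3, hφφ]
    group
  -- `ψ Y = Y⁻¹`
  obtain ⟨P, hP⟩ := hD.surj p
  obtain ⟨Y, hYd⟩ : ∃ Y, Y = ψ P * P⁻¹ := ⟨_, rfl⟩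
  have hY : π Y = y := by
    rw [hYd, map_mul, map_inv, hπ, hP]
    have h3 : alpha p = y * p := by
      have h4 := alpha_p'
      rw [wd_cons, wd_p] at h4
      exact h4
    rw [h3, mul_inv_cancel_right]
  have hYY : Y * Y = c := sqA hD (by rw [hY]; exact isA_y)
  have hψY : ψ Y = Y⁻¹ := by rw [hYd, map_mul, map_inv, hψψ]; group
  -- the key for `ψ`
  have key : ∀ m, ψ m * m = 1 → ∃ n, m = ψ n * n⁻¹ := by
    intro m hm
    have h3 : alpha (π m) * π m = 1 := by rw [← hπ, ← map_mul, hm, map_one]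
    obtain ⟨n, hn⟩ := twisted _ h3
    obtain ⟨N, hN⟩ := hD.surj n⁻¹
    have h4 : π m = π (ψ N * N⁻¹) := by
      rw [map_mul, map_inv, hπ, hN, map_inv, inv_inv]
      exact hn
    rcases eq_or hD h4 with h5 | h5
    · exact ⟨N, h5⟩
    · refine ⟨N * Y, ?_⟩
      rw [h5, map_mul, hψY]
      calc ψ N * N⁻¹ * c = ψ N * (N⁻¹ * c) := by group
        _ = ψ N * (c⁻¹ * N⁻¹) := by rw [inv_c hD, hD.cen]
        _ = ψ N * ((Y * Y)⁻¹ * N⁻¹) := by rw [hYY]
        _ = _ := by group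
  obtain ⟨n, hn⟩ := key (K * m * K⁻¹) (by
    rw [hψa]
    have h3 : K⁻¹ * (K * m * K⁻¹) * K = m := by group
    rw [h3]
    calc K * φ m * K⁻¹ * (K * m * K⁻¹) = K * (φ m * m) * K⁻¹ := by group
      _ = 1 := by rw [hm]; group)
  refine ⟨K⁻¹ * n * K, ?_⟩
  calc m = K⁻¹ * (K * m * K⁻¹) * K := by group
    _ = K⁻¹ * (ψ n * n⁻¹) * K := by rw [hn]
    _ = K⁻¹ * (K * φ (K⁻¹ * n * K) * K⁻¹ * n⁻¹) * K := by rw [hψa]
    _ = _ := by group

end Cfsg.Agent.OddHalf.D9.TwoM12
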