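import Cfsg.Agent.OddHalf.D9.TwoM12.Cent
import Cfsg.Agent.OddHalf.D9.TwoM12.Aut
import Cfsg.Agent.OddHalf.D9.M12Glue
import Cfsg.Agent.GH.Cov.TwelveDefs

/-!
# The facts on `2.M12` (for an arbitrary perfect double cover of `Spor.M12`)

* `kfacts : Dbl π c → M12Glue.KFacts L c` (S1765, D9);
* `tm12 : Dbl π c → TM12 c` (S1766, GH-COV);
* `exists_dbl`: a perfect group with centre of order 2 and central quotient `M12`.
-/

set_option autoImplicit false
open scoped Pointwise
open Cfsg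

namespace Cfsg.Agent.OddHalf.D9.TwoM12

open Cfsg.Agent.CoThreeStd.MTwelve Cfsg.Agent.CoThreeStd.InvTwo
open Cfsg.Agent.KFacts.MulTwo Cfsg.Agent.KFacts.MulDef
open Cfsg.Agent.OddHalf.D9.M12Glue (KFacts InvL Inn)
open Cfsg.Agent.GH.Cov.TwelveDefs (TM12)

variable {L : Type*} [Group L] {π : L →* H} {c : L} [Finite L]

/-- **The facts on `2.M12`.** -/
theorem kfacts (hD : Dbl π c) : KFacts L c where
  cc := hD.sq
  c1 := hD.ne
  cen := mem_center hD
  out := out hD
  conj := fun f w hf hw => conj_or hD hf.sq hf.ne hf.nec hw.sq hw.ne hw.nec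
  sq_or := fun f hf => sq_or hD hf.sq hf.ne hf.nec
  sq_not := fun f hf ⟨_, hs⟩ ⟨_, ht⟩ => sq_not hD hf.sq hf.ne hf.nec hs ht
  y3 := fun f hf ⟨_, hs⟩ => ⟨y3c hD hf.sq hf.ne hf.nec, y3f hD hf.sq hf.ne hf.nec hs⟩
  four := fun f hf ⟨_, hs⟩ => four_mem hD hf.sq hf.ne hf.nec hs
  not_four := four_ne hD
  solv := fun f hf Y hY hYf z hz => by
    have h := solv hD hf.sq hf.ne hf.nec Y hY hYf
    rw [h] at hz
    exact Subgroup.mem_bot.mp hz
  v_conj := fun k m hk hm => v_conj hD hk hm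
  v_perf := fun k hk => v_perf hD hk
  o_perf := fun α hα h2 => o_perf hD hα h2
  o_conj := fun α hα h2 m hm => o_conj hD hα h2 m hm

/-- **The facts on `2.M12`, second version.** -/
theorem tm12 (hD : Dbl π c) : TM12 c where
  zz := hD.sq
  z_ne := hD.ne
  central := fun x => (hD.cen x).symm
  cls := fun f f' h2 h1 hc h2' h1' hc' => by
    obtain ⟨k, hk | hk⟩ := conj_or hD h2 h1 hc h2' h1' hc'
    · exact Or.inl (isConj_iff.mpr ⟨k, hk⟩)
    · exact Or.inr (isConj_iff.mpr ⟨k, hk⟩)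
  not_both := fun f s t h2 h1 hc hs ht => sq_not hD h2 h1 hc hs ht
  roots := fun f h2 h1 hc => by
    obtain ⟨s, hs, hs'⟩ := y3c hD h2 h1 hc
    obtain ⟨t, ht, ht'⟩ := y3t hD h2 h1 hc
    exact ⟨s, hs, t, ht, hs', ht'⟩
  invgen := fun f a h2 h1 hc ha => invgen hD h2 h1 hc ha
  four := fun f h2 h1 hc => exists_four hD h2 h1 hc
  no_four := four_ne hD
  solv := fun f h2 h1 hc Y hY hYf => solv hD h2 h1 hc Y hY hYf
  core := fun f h2 h1 hc N hNf hN hodd => core hD h2 h1 hc N hNf hN hodd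
  out := out hD
  outer := fun α h2 hα => by
    refine ⟨?_, fun m hm => o_conj hD hα h2 m hm⟩
    obtain ⟨Y, hY, hYα, x, hx, hx1, hxx⟩ := o_perf hD hα h2
    exact ⟨Y, hY, hYα, x, hx, hxx, hx1⟩

/-- a perfect group with centre of order 2 and central quotient `M12` is a double cover -/
theorem exists_dbl {M : Type*} [Group M] (hp : commutator M = ⊤) (h2 : Nat.card (Subgroup.center M) = 2)
    (e : Spor.IsoM12 (M ⧸ Subgroup.center M)) : ∃ (π : M →* H) (c : M), Dbl π c ∧ c ∈ Subgroup.center M := by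
  obtain ⟨e⟩ := e
  obtain ⟨⟨c, hc⟩, hcc⟩ : ∃ x : Subgroup.center M, x ≠ 1 := by
    by_contra h
    push Not at h
    have h3 : Nat.card (Subgroup.center M) ≤ 1 := by
      have : Subsingleton (Subgroup.center M) := ⟨fun a b => (h a).trans (h b).symm⟩
      exact Finite.card_le_one_iff_subsingleton.mpr this
    omega
  have key : ∀ x ∈ Subgroup.center M, x = 1 ∨ x = c := by
    intro x hx
    have h3 := (Nat.card_eq_two_iff' (1 : Subgroup.center M)).mp h2
    obtain ⟨u, hu, huu⟩ := h3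
    by_cases h4 : (⟨x, hx⟩ : Subgroup.center M) = 1
    · left; exact congrArg Subtype.val h4
    · right
      have h5 := huu ⟨x, hx⟩ h4
      have h6 := huu ⟨c, hc⟩ hcc
      exact congrArg Subtype.val (h5.trans h6.symm)
  have hc1 : c ≠ 1 := fun h => hcc (Subtype.ext h)
  refine ⟨e.toMonoidHom.comp (QuotientGroup.mk' (Subgroup.center M)), c, ⟨⟨hc1, ?_, ?_, hp⟩, ?_, ?_⟩, hc⟩
  · rcases key (c * c) (mul_mem hc hc) with h | h
    · exact h
    · exact (hc1 (mul_eq_left.1 h)).elim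
  · intro x
    exact (Subgroup.mem_center_iff.mp hc x).symm
  · exact e.surjective.comp (QuotientGroup.mk'_surjective _)
  · intro x
    show e (QuotientGroup.mk' (Subgroup.center M) x) = 1 ↔ _
    rw [map_eq_one_iff e e.injective]
    show ((x : M) : M ⧸ Subgroup.center M) = 1 ↔ _
    rw [QuotientGroup.eq_one_iff]
    constructor
    · exact key x
    · rintro (rfl | rfl)
      · exact one_mem _
      · exact hc

/-- **The facts on a perfect group with centre of order 2 and central quotient `M12`.** -/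
theorem exists_kfacts {M : Type*} [Group M] [Finite M] (hp : commutator M = ⊤)
    (h2 : Nat.card (Subgroup.center M) = 2) (e : Spor.IsoM12 (M ⧸ Subgroup.center M)) :
    ∃ c ∈ Subgroup.center M, KFacts M c := by
  obtain ⟨π, c, hD, hc⟩ := exists_dbl hp h2 e
  exact ⟨c, hc, kfacts hD⟩

/-- second version -/
theorem exists_tm12 {M : Type*} [Group M] [Finite M] (hp : commutator M = ⊤)
    (h2 : Nat.card (Subgroup.center M) = 2) (e : Spor.IsoM12 (M ⧸ Subgroup.center M)) :
    ∃ c ∈ Subgroup.center M, TM12 c := by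
  obtain ⟨π, c, hD, hc⟩ := exists_dbl hp h2 e
  exact ⟨c, hc, tm12 hD⟩

end Cfsg.Agent.OddHalf.D9.TwoM12
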