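import Cfsg.Agent.CoThreeStd.DeltaData
import Cfsg.Agent.KFacts.MulDef

/-!
# Perfect double covers of `M12`: squares of the lifts of involutions

`π : L → M12` a perfect double cover with kernel `{1, c}`. Lifts of elements of class 2A have square `c`
(`sqA`), lifts of elements of class 2B have square `1` (`sqB`).
-/

set_option autoImplicit false
open scoped Pointwise
open Cfsg

namespace Cfsg.Agent.OddHalf.D9.TwoM12

open Cfsg.Agent.CoThreeStd.MTwelve Cfsg.Agent.CoThreeStd.InvTwo
open Cfsg.Agent.KFacts.MulTwo Cfsg.Agent.KFacts.MulDef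

/-! ### general double covers -/

section gen

variable {L X : Type*} [Group L] [Group X] {π : L →* X} {c : L}

theorem pc (D : Dbl π c) : π c = 1 := (D.ker c).2 (Or.inr rfl)

theorem inv_c (D : Dbl π c) : c⁻¹ = c := inv_eq_of_mul_eq_one_left D.sq

theorem eq_or (D : Dbl π c) {x y : L} (h : π x = π y) : x = y ∨ x = y * c := by
  have h1 : π (y⁻¹ * x) = 1 := by rw [map_mul, map_inv, h, inv_mul_cancel]
  rcases (D.ker _).1 h1 with h2 | h2
  · left; exact (inv_mul_eq_one.1 h2).symm
  · right; rw [← h2, mul_inv_cancel_left]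

theorem sq_eq (D : Dbl π c) {x y : L} (h : π x = π y) : x * x = y * y := by
  rcases eq_or D h with rfl | rfl
  · rfl
  · calc y * c * (y * c) = y * (c * y) * c := by group
      _ = y * (y * c) * c := by rw [D.cen]
      _ = y * y * (c * c) := by group
      _ = y * y := by rw [D.sq, mul_one]

theorem sq_conj (D : Dbl π c) {x y g : L} (h : π y = (π g)⁻¹ * π x * π g) : y * y = g⁻¹ * (x * x) * g := by
  have h1 : π y = π (g⁻¹ * x * g) := by rw [h, map_mul, map_mul, map_inv]
  rw [sq_eq D h1]
  group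

theorem sq_cases (D : Dbl π c) {x : L} (h : π x * π x = 1) : x * x = 1 ∨ x * x = c := by
  rw [← map_mul] at h
  exact (D.ker _).1 h

theorem cen_of (D : Dbl π c) {s : L} (h : s = 1 ∨ s = c) (x : L) : s * x = x * s := by
  rcases h with rfl | rfl
  · rw [one_mul, mul_one]
  · exact D.cen x

theorem sq_of (D : Dbl π c) {s : L} (h : s = 1 ∨ s = c) : s * s = 1 := by
  rcases h with rfl | rfl
  · rw [one_mul]
  · exact D.sq

/-- the commutator of two elements from three squares -/
theorem swap_eq {a b s t u : L} (ha : a * a = s) (hb : b * b = t) (hab : a * b * (a * b) = u)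
    (hs : s * s = 1) (ht : t * t = 1) (hsb : s * b = b * s) (hub : u * b = b * u) : b * a = a * b * (s * u * t) := by
  have h1 : a⁻¹ = a * s := by
    apply inv_eq_of_mul_eq_one_right
    rw [← mul_assoc, ha, hs]
  have h2 : b⁻¹ = b * t := by
    apply inv_eq_of_mul_eq_one_right
    rw [← mul_assoc, hb, ht]
  calc b * a = a⁻¹ * (a * b * (a * b)) * b⁻¹ := by group
    _ = a * s * u * (b * t) := by rw [hab, h1, h2]
    _ = a * s * (u * b) * t := by group
    _ = a * s * (b * u) * t := by rw [hub]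
    _ = a * (s * b) * u * t := by group
    _ = a * (b * s) * u * t := by rw [hsb]
    _ = _ := by group

end gen

/-! ### double covers of `M12` -/

variable {L : Type*} [Group L] {π : L →* H} {c : L}

theorem isA_of {l m : List ℕ} {x : L} (h : π x = wd l) (h' : eqW (cj [0] m) l = true) : IsA (π x) := by
  rw [h]; exact isA_wd h'

theorem exists_s (D : Dbl π c) : ∃ s : L, (s = 1 ∨ s = c) ∧ (∀ x, IsA (π x) → x * x = s) ∧
    ∀ x, IsB (π x) → x * x = 1 := by
  obtain ⟨Y, hY⟩ := D.surj y
  obtain ⟨P, hP⟩ := D.surj p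
  obtain ⟨R, hR⟩ := D.surj r
  have hs : Y * Y = 1 ∨ Y * Y = c := sq_cases D (by rw [hY, y_sq])
  obtain ⟨s, hsd⟩ : ∃ s, s = Y * Y := ⟨_, rfl⟩
  rw [← hsd] at hs
  have hsc := cen_of D hs
  have hss := sq_of D hs
  have hA : ∀ x, IsA (π x) → x * x = s := by
    rintro x ⟨k, hk⟩
    obtain ⟨K, rfl⟩ := D.surj k
    rw [sq_conj D (x := Y) (g := K) (by rw [hY, hk]), ← hsd, mul_assoc, hsc, inv_mul_cancel_left]
  refine ⟨s, hs, hA, ?_⟩
  have hPP : P * P = s := hA P (isA_of (l := [1]) (m := [5, 1, 5, 0, 2, 5, 2]) (by rw [hP, wd_p]) (by decide +kernel))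
  have hRR : R * R = s := hA R (isA_of (l := [3]) (m := [5, 0, 5, 0, 3, 5]) (by rw [hR, wd_r]) (by decide +kernel))
  have hYP : Y * P * (Y * P) = s := hA _ (isA_of (l := [0, 1]) (m := [5, 0, 1, 2, 5, 1, 5])
    (by rw [map_mul, hY, hP]; simp [wd, gen]) (by decide +kernel))
  have hYR : Y * R * (Y * R) = s := hA _ (isA_of (l := [0, 3]) (m := [5, 0, 3, 5, 0, 5])
    (by rw [map_mul, hY, hR]; simp [wd, gen]) (by decide +kernel))
  have hYPR : Y * (P * R) * (Y * (P * R)) = s := hA _ (isA_of (l := [0, 1, 3]) (m := [5, 0, 1, 3, 5, 2, 4])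
    (by rw [map_mul, map_mul, hY, hP, hR]; simp [wd, gen]) (by decide +kernel))
  have h1 : P * Y = Y * P * s := by
    have := swap_eq hsd.symm hPP hYP hss hss (hsc _) (hsc _)
    rwa [hss, one_mul] at this
  have h2 : R * Y = Y * R * s := by
    have := swap_eq hsd.symm hRR hYR hss hss (hsc _) (hsc _)
    rwa [hss, one_mul] at this
  have h3 : (P * R) * Y = Y * (P * R) := by
    calc (P * R) * Y = P * (R * Y) := by group
      _ = P * (Y * R * s) := by rw [h2]
      _ = (P * Y) * R * s := by group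
      _ = Y * P * (s * R) * s := by rw [h1]; group
      _ = Y * P * (R * s) * s := by rw [hsc]
      _ = Y * (P * R) * (s * s) := by group
      _ = _ := by rw [hss, mul_one]
  have h4 : (P * R) * (P * R) = 1 := by
    have h5 : Y * (P * R) * (Y * (P * R)) = s * ((P * R) * (P * R)) := by
      calc Y * (P * R) * (Y * (P * R)) = Y * ((P * R) * Y) * (P * R) := by group
        _ = Y * (Y * (P * R)) * (P * R) := by rw [h3]
        _ = (Y * Y) * ((P * R) * (P * R)) := by group
        _ = _ := by rw [← hsd]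
    rw [hYPR] at h5
    exact (mul_eq_left.1 h5.symm)
  rintro x ⟨k, hk⟩
  obtain ⟨K, rfl⟩ := D.surj k
  rw [sq_conj D (x := P * R) (g := K) (by rw [map_mul, hP, hR, hk]), h4, mul_one, inv_mul_cancel]

end Cfsg.Agent.OddHalf.D9.TwoM12
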