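import Cfsg.Agent.OddHalf.D9.TwoM12.Fields
import Cfsg.Agent.S0144

/-!
# Perfect double covers of `M12`: the centralisers of involutions
-/

set_option autoImplicit false
open scoped Pointwise commutatorElement
open Cfsg

namespace Cfsg.Agent.OddHalf.D9.TwoM12

open Cfsg.Agent.CoThreeStd.MTwelve Cfsg.Agent.CoThreeStd.InvTwo
open Cfsg.Agent.CoThreeStd.DeltaData (mem_cbe cbe)
open Cfsg.Agent.KFacts.MulTwo Cfsg.Agent.KFacts.MulDef

/-! ### generation by involutions -/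

/-- the four involutions generating the centraliser -/
def ex : ℕ → List ℕ
  | 0 => w0
  | 1 => w1
  | 2 => w2
  | _ => w3

/-- product -/
def exw (u : List ℕ) : List ℕ := (u.map ex).flatten

/-- the elements of `cbe` as products of the four involutions -/
def us : List (List ℕ) :=
  [[], [1,0,3,2,1,2], [1,3,0,2,1,2], [0], [1,2,1], [2,1,3,0,1], [0,1,2,3,1], [1,0,1,2], [1,0,3,1,2], [1,2,3,0,1,2], 
  [1,2,3,2,1], [0,1,3,2,1], [1,3,0,1,2], [0,1,2,3,2,1], [1,0,2,3,1,2], [1,3,2,1], [0,1,2,1], [1,2,3,1], [1,2,3,1,0], 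
  [2,3,0,3], [2,0,2], [0,1,3,1], [1,3,1], [0,2,0,2], [0,2,3,2], [3,0,2,1,3], [0,3,0,2,1,3], [2,3,2], [2,0,3,0], 
  [1,2,3], [1,2,3,0], [2,0,3], [1,3,0,1,2,3], [2,1,3,2], [2,1,3,2,0], [0,1,3,1,2,3], [1,0,3,1,2,3], [2,1,3,0,2], 
  [0,2,1,3,2], [1,3,1,2,3], [1,2,1,3], [1,0,2,3], [0,1,2,3], [0,2,0,3], [0,2,3,0,2], [0,3,2,1,3], [3,2,1,3], 
  [2,3,0,2], [0,3,0,2], [0,2,3,2,1,3], [2,3,0,1,2,3], [3,1,2,1], [2,0,2,3], [1,3,0], [1,3], [2,0,2,3,0], 
  [0,1,2,3,2,1,3], [1,0,3,2,0], [1,2,3,1,2,3], [1,0,3,2], [1,2,3,0,1,2,3], [0,1,3,2,0], [1,0,2,3,2,1,3], [0,1,3,2], 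
  [0,3,2], [2,3,1,2,3], [2,0,3,1,2,3], [0,3,2,0], [3], [2,0,2,1,3], [0,2,1,2,3], [3,0], [0,3,2,1], [2,3,1,2], 
  [2,3,0,2,1], [3,1,0,2], [0,3,1], [2,0,2,1], [2,1,2], [3,0,1], [0,2,3,1,0], [1,0,2], [0,2,3,1], [1,0,2,0], 
  [2,3,0,1], [1,2], [2,0,3,1], [0,2,1], [3,0,2,1], [0,2,3,2,1], [2,0,3,2,1], [3,1,2], [2,0,2,3,1], [0,1,0], [0,1], 
  [3,2,1,2], [3,2,1], [2,0,3,1,2], [0,2,3,1,2], [3,0,1,2], [3,1], [0,2,1,2], [0,2,0,2,1], [3,1,0], [0,2,3,0,1], 
  [0,1,2], [0,2,0,3,1], [2,1], [2,3,1,0], [0,1,0,2], [2,3,1], [0,1,0,2,0], [0,3,0,2,1], [2,3,0,1,2], [2,3,2,1], 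
  [0,3,1,2], [3,0,2,1,2], [1], [1,0], [0,3,2,1,2], [3,0,2], [2,0,3,2,1,3], [2,3,2,1,3], [3,0,2,0], [0,2,0,2,3], 
  [0,1,3], [1,0,3], [1,2,1,2,3], [1,0,2,3,1,2,3], [1,3,2,0], [1,2,3,0,2,1,3], [1,3,2], [1,2,3,2,1,3], [1,3,0,2,0], 
  [0,1,2,3,1,2,3], [1,3,0,2], [3,2], [2,3,0,2,1,3], [0,2,3,1,2,3], [3,2,0], [0,3], [2,1,2,3], [2,1,2,3,0], [0,3,0], 
  [3,0,3], [1,3,2,1,2], [0,1,3,2,1,2], [1,0,1], [0,2,0], [1,0,2,3,1], [2,1,3,1], [0,2], [1,3,1,2], [1,0,2,3,2,1], 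
  [0,1,2,3,1,2], [1,3,0,2,1], [0,1,3,1,2], [1,2,3,1,2], [1,2,3,0,2,1], [1,0,3,2,1], [2,0], [0,2,1,3,1], [1,2,3,0,1], 
  [2], [0,1,2,1,2], [1,3,0,1], [1,0,3,1], [1,2,1,2], [0,2,0,3,2], [3,1,2,3], [0,3,1,2,3], [2,0,3,2], [2,3,0], 
  [0,2,1,3], [0,2,1,3,0], [2,3], [1,3,2,1,3], [0,1,2,3,2], [1,2,3,0,2], [1,0,3,2,1,3], [0,1,3,2,1,3], [1,0,2,3,2], 
  [1,2,3,2], [1,3,0,2,1,3], [0,2,3,0], [2,1,3,0], [2,1,3], [0,2,3], [1,2,1,3,2], [3,1,0,2,3], [3,0,1,2,3], 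
  [2,0,3,0,2]]

set_option maxRecDepth 100000 in
theorem us_all : ((cbe.zip us).all fun a => eqW a.1 (exw a.2)) = true := by decide +kernel

theorem us_len : us.length = cbe.length := by decide +kernel

theorem exists_u (m : H) (hm : m * (p * r) = (p * r) * m) : ∃ u : List ℕ, m = wd (exw u) := by
  obtain ⟨l, hl, h1⟩ := mem_cbe m (by
    show m * wd [1, 3] = wd [1, 3] * m
    rw [wd_pr]
    exact hm)
  obtain ⟨i, hi, rfl⟩ := List.getElem_of_mem hl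
  have hi' : i < us.length := by rw [us_len]; exact hi
  have h2 : (cbe[i], us[i]) ∈ cbe.zip us := by
    have h3 : i < (cbe.zip us).length := by rw [List.length_zip, us_len, min_self]; exact hi
    have h4 := List.getElem_mem h3
    rwa [List.getElem_zip] at h4
  have h3 := List.all_eq_true.mp us_all _ h2
  exact ⟨us[i], by rw [← h1]; exact wd_eq h3⟩

theorem wd_exw (i : ℕ) (u : List ℕ) : wd (exw (i :: u)) = wd (ex i) * wd (exw u) := by
  rw [← wd_append]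
  rfl

theorem isB_ex (i : ℕ) : IsB (wd (ex i)) ∧ IsB (wd (ex i ++ [1, 3])) := by
  rcases i with _ | _ | _ | i
  · exact ⟨isB_w0, isB_w0'⟩
  · exact ⟨isB_w1, isB_w1'⟩
  · exact ⟨isB_w2, isB_w2'⟩
  · exact ⟨isB_w3, isB_w3'⟩

/-- test for `O(C(p r)) = 1` -/
def tC (l : List ℕ) : Bool :=
  !(eqW (wpow l 3) []) || !(eqW (wpow (wv ++ l ++ wv.reverse ++ l.reverse) 3) []) || eqW l []

set_option maxRecDepth 100000 in
theorem tC_all : cbe.all tC = true := by decide +kernel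

theorem core_aux {m : H} (hm : m * (p * r) = (p * r) * m) (h3 : m ^ 3 = 1)
    (h4 : (wd wv * m * (wd wv)⁻¹ * m⁻¹) ^ 3 = 1) : m = 1 := by
  obtain ⟨l, rfl, h⟩ := cbe_check tC_all m hm
  rw [tC, Bool.or_eq_true, Bool.or_eq_true] at h
  rcases h with (h | h) | h
  · exfalso
    have h5 : eqW (wpow l 3) [] = true := by
      apply eqW_of_wd
      rw [wd_wpow, h3, wd_nil]
    rw [h5] at h
    exact Bool.noConfusion h
  · exfalso
    have h5 : eqW (wpow (wv ++ l ++ wv.reverse ++ l.reverse) 3) [] = true := by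
      apply eqW_of_wd
      rw [wd_wpow, wd_append, wd_append, wd_append, ← wd_reverse, ← wd_reverse, h4, wd_nil]
    rw [h5] at h
    exact Bool.noConfusion h
  · exact wd_eq h

/-! ### solvability -/

theorem perf_eq_bot {G : Type*} [Group G] {S : Subgroup G} (hS : Group.IsSolvable S) {Y : Subgroup G}
    (hY : ⁅Y, Y⁆ = Y) (hYS : Y ≤ S) : Y = ⊥ := by
  by_contra hne
  have h1 : ⁅Y.subgroupOf S, Y.subgroupOf S⁆ = Y.subgroupOf S := by
    apply Subgroup.map_injective S.subtype_injective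
    rw [Subgroup.map_commutator, Subgroup.subgroupOf_map_subtype, inf_eq_left.mpr hYS, hY]
  have h2 : Y.subgroupOf S ≠ ⊥ := by
    intro h
    apply hne
    rw [← inf_eq_left.mpr hYS, ← Subgroup.subgroupOf_map_subtype, h, Subgroup.map_bot]
  have h3 := Group.IsSolvable.commutator_lt_of_ne_bot h2
  rw [h1] at h3
  exact lt_irrefl _ h3

theorem solvable_cent : Group.IsSolvable (Subgroup.centralizer {p * r} : Subgroup H) :=
  S0144.result 2 3 6 1 Nat.prime_two Nat.prime_three (by rw [card_cent_v]; norm_num)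

/-! ### the cover -/

variable {L : Type*} [Group L] {π : L →* H} {c : L} [Finite L]

theorem solv (hD : Dbl π c) {f : L} (h2 : f * f = 1) (h1 : f ≠ 1) (hc : f ≠ c) (Y : Subgroup L)
    (hY : ⁅Y, Y⁆ = Y) (hYf : ∀ z ∈ Y, z * f = f * z) : Y = ⊥ := by
  obtain ⟨g, hg⟩ := exists_over hD h2 h1 hc
  have e1 : Y.map ((MulAut.conj (π g)).toMonoidHom.comp π) = ⊥ := by
    apply perf_eq_bot solvable_cent
    · rw [← Subgroup.map_commutator, hY]
    · rintro _ ⟨z, hz, rfl⟩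
      rw [Subgroup.mem_centralizer_singleton_iff]
      show π g * π z * (π g)⁻¹ * (p * r) = p * r * (π g * π z * (π g)⁻¹)
      have h3 := congrArg π (hYf z hz)
      rw [map_mul, map_mul] at h3
      rw [← hg]
      calc π g * π z * (π g)⁻¹ * (π g * π f * (π g)⁻¹) = π g * (π z * π f) * (π g)⁻¹ := by group
        _ = π g * (π f * π z) * (π g)⁻¹ := by rw [h3]
        _ = _ := by group
  have e2 : ∀ z ∈ Y, z = 1 ∨ z = c := by
    intro z hz
    have h3 : π g * π z * (π g)⁻¹ ∈ Y.map ((MulAut.conj (π g)).toMonoidHom.comp π) := ⟨z, hz, rfl⟩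
    rw [e1, Subgroup.mem_bot, conj_eq_one_iff] at h3
    exact (hD.ker z).1 h3
  rw [eq_bot_iff, ← hY, Subgroup.commutator_le]
  intro a ha b _
  rw [Subgroup.mem_bot, commutatorElement_eq_one_iff_mul_comm]
  exact cen_of hD (e2 a ha) b

theorem core (hD : Dbl π c) {f : L} (h2 : f * f = 1) (h1 : f ≠ 1) (hc : f ≠ c) (N : Subgroup L)
    (hNf : ∀ n ∈ N, n * f = f * n) (hN : ∀ g, g * f = f * g → ∀ n ∈ N, g * n * g⁻¹ ∈ N)
    (hodd : Odd (Nat.card N)) : N = ⊥ := by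
  obtain ⟨g, hg⟩ := exists_over hD h2 h1 hc
  have hcomm : ∀ n ∈ N, (π g * π n * (π g)⁻¹) * (p * r) = (p * r) * (π g * π n * (π g)⁻¹) := by
    intro n hn
    have h3 := congrArg π (hNf n hn)
    rw [map_mul, map_mul] at h3
    rw [← hg]
    calc π g * π n * (π g)⁻¹ * (π g * π f * (π g)⁻¹) = π g * (π n * π f) * (π g)⁻¹ := by group
      _ = π g * (π f * π n) * (π g)⁻¹ := by rw [h3]
      _ = _ := by group
  have hpow : ∀ n ∈ N, n ^ Nat.card N = 1 := by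
    intro n hn
    have := pow_card_eq_one' (x := (⟨n, hn⟩ : N))
    exact congrArg Subtype.val this
  have cube : ∀ n ∈ N, (π g * π n * (π g)⁻¹) ^ 3 = 1 := by
    intro n hn
    rw [← orderOf_dvd_iff_pow_eq_one]
    have h3 : orderOf (π g * π n * (π g)⁻¹) ∣ 192 := by
      rw [← card_cent_v]
      have h4 : (π g * π n * (π g)⁻¹) ∈ (Subgroup.centralizer {p * r} : Subgroup H) :=
        Subgroup.mem_centralizer_singleton_iff.mpr (hcomm n hn)
      have h5 := orderOf_dvd_natCard (⟨_, h4⟩ : (Subgroup.centralizer {p * r} : Subgroup H))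
      rwa [Subgroup.orderOf_mk] at h5
    have h4 : orderOf (π g * π n * (π g)⁻¹) ∣ Nat.card N := by
      rw [orderOf_dvd_iff_pow_eq_one, conj_pow, ← map_pow, hpow n hn, map_one, mul_one, mul_inv_cancel]
    have h5 : Nat.Coprime (orderOf (π g * π n * (π g)⁻¹)) 64 := by
      rw [show (64 : ℕ) = 2 ^ 6 from rfl]
      apply Nat.Coprime.pow_right
      exact Nat.coprime_two_right.mpr (Odd.of_dvd_nat hodd h4)
    exact h5.dvd_of_dvd_mul_left (m := 64) (n := 3) h3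
  -- a root of `f` or `f c`
  obtain ⟨V, hV⟩ := hD.surj ((π g)⁻¹ * wd wv * π g)
  have hVf : V * f = f * V := by
    have h3 : π (V * V) = π f := by
      rw [map_mul, hV]
      calc (π g)⁻¹ * wd wv * π g * ((π g)⁻¹ * wd wv * π g) = (π g)⁻¹ * (wd wv * wd wv) * π g := by group
        _ = π f := by rw [wv_sq, ← hg]; group
    rcases eq_or hD h3 with h4 | h4
    · rw [← h4, mul_assoc]
    · have h5 : f = V * V * c := by rw [h4, mul_assoc, hD.sq, mul_one]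
      rw [h5]
      calc V * (V * V * c) = V * V * (V * c) := by group
        _ = V * V * (c * V) := by rw [hD.cen]
        _ = _ := by group
  rw [eq_bot_iff]
  intro n hn
  have h3 : V * n * V⁻¹ * n⁻¹ ∈ N := mul_mem (hN V hVf n hn) (inv_mem hn)
  have h4 := cube _ h3
  have h5 : π g * π (V * n * V⁻¹ * n⁻¹) * (π g)⁻¹ =
      wd wv * (π g * π n * (π g)⁻¹) * (wd wv)⁻¹ * (π g * π n * (π g)⁻¹)⁻¹ := by
    rw [map_mul, map_mul, map_mul, map_inv, map_inv, hV]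
    group
  rw [h5] at h4
  have h6 := core_aux (hcomm n hn) (cube n hn) h4
  rw [conj_eq_one_iff] at h6
  rcases (hD.ker n).1 h6 with h7 | h7
  · exact h7
  · exfalso
    have h8 := hpow n hn
    obtain ⟨k, hk⟩ := hodd
    rw [hk, h7, pow_succ, pow_mul, pow_two, hD.sq, one_pow, one_mul] at h8
    exact hD.ne h8

theorem invgen (hD : Dbl π c) {f : L} (h2 : f * f = 1) (h1 : f ≠ 1) (hc : f ≠ c) {a : L}
    (ha : a * f = f * a) : a ∈ Subgroup.closure {x : L | x * f = f * x ∧ x * x = 1} := by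
  obtain ⟨g, hg⟩ := exists_over hD h2 h1 hc
  have hca : c ∈ Subgroup.closure {x : L | x * f = f * x ∧ x * x = 1} :=
    Subgroup.subset_closure ⟨hD.cen f, hD.sq⟩
  have key : ∀ u : List ℕ, ∃ x ∈ Subgroup.closure {x : L | x * f = f * x ∧ x * x = 1},
      π x = (π g)⁻¹ * wd (exw u) * π g := by
    intro u
    induction u with
    | nil =>
      refine ⟨1, one_mem _, ?_⟩
      rw [map_one, show exw [] = [] from rfl, wd_nil]
      group
    | cons i u ih =>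
      obtain ⟨x, hx, hx'⟩ := ih
      obtain ⟨W, b1, b2, b3⟩ := lift_inv hD h2 hg (isB_ex i).1 (isB_ex i).2
      refine ⟨W * x, mul_mem (Subgroup.subset_closure ⟨b1, b2⟩) hx, ?_⟩
      rw [map_mul, b3, hx', wd_exw]
      group
  obtain ⟨u, hu⟩ := exists_u (π g * π a * (π g)⁻¹) (by
    have h3 := congrArg π ha
    rw [map_mul, map_mul] at h3
    rw [← hg]
    calc π g * π a * (π g)⁻¹ * (π g * π f * (π g)⁻¹) = π g * (π a * π f) * (π g)⁻¹ := by group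
      _ = π g * (π f * π a) * (π g)⁻¹ := by rw [h3]
      _ = _ := by group)
  obtain ⟨x, hx, hx'⟩ := key u
  have h3 : π a = π x := by rw [hx', ← hu]; group
  rcases eq_or hD h3 with h4 | h4
  · rw [h4]; exact hx
  · rw [h4]; exact mul_mem hx hca

/-- an element of order 8 -/
theorem exists_four (hD : Dbl π c) {f : L} (h2 : f * f = 1) (h1 : f ≠ 1) (hc : f ≠ c) :
    ∃ a, a * f = f * a ∧ (a ^ 4 = f ∨ a ^ 4 = f * c) := by
  obtain ⟨g, hg⟩ := exists_over hD h2 h1 hc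
  obtain ⟨a, ha⟩ := hD.surj ((π g)⁻¹ * wd (w1 ++ w2 ++ w3) * π g)
  have h3 : wd (wpow (w1 ++ w2 ++ w3) 4) = p * r := by
    rw [← wd_pr]
    exact wd_eq (by decide +kernel)
  rw [wd_wpow] at h3
  have h4 : π (a ^ 4) = π f := by
    rw [map_pow, ha]
    calc ((π g)⁻¹ * wd (w1 ++ w2 ++ w3) * π g) ^ 4 = (π g)⁻¹ * wd (w1 ++ w2 ++ w3) ^ 4 * π g := by
          rw [pow_four_eq, pow_four_eq]; group
      _ = π f := by rw [h3, ← hg]; group
  have h5 : a * a ^ 4 = a ^ 4 * a := by rw [← pow_succ, ← pow_succ']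
  rcases eq_or hD h4 with h6 | h6
  · exact ⟨a, by rw [← h6]; exact h5, Or.inl h6⟩
  · refine ⟨a, ?_, Or.inr h6⟩
    have h7 : f = a ^ 4 * c := by rw [h6, mul_assoc, hD.sq, mul_one]
    rw [h7, ← mul_assoc, h5, mul_assoc, ← hD.cen, ← mul_assoc]

/-- a root of `f` or `f c` -/
theorem y3t (hD : Dbl π c) {f : L} (h2 : f * f = 1) (h1 : f ≠ 1) (hc : f ≠ c) :
    ∃ t ∈ Subgroup.closure {x : L | x * f = f * x ∧ x ^ 3 = 1}, t * t = f ∨ t * t = f * c := by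
  obtain ⟨g, hg⟩ := exists_over hD h2 h1 hc
  obtain ⟨T1, a1, a2, a3⟩ := lift_cube hD hg wt1_cube wt1_comm
  obtain ⟨T2, b1, b2, b3⟩ := lift_cube hD hg wt2_cube wt2_comm
  refine ⟨T1 * T2, mul_mem (Subgroup.subset_closure ⟨a1, a2⟩) (Subgroup.subset_closure ⟨b1, b2⟩), ?_⟩
  have h3 : wd ((wt1 ++ wt2) ++ (wt1 ++ wt2)) = p * r := by
    rw [← wd_pr]
    exact wd_eq (by decide +kernel)
  rw [wd_append, wd_append] at h3
  have h1' : π f = (π g)⁻¹ * (p * r) * π g := by rw [← hg]; group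
  apply eq_or hD
  rw [map_mul, map_mul, a3, b3, h1', ← h3]
  group

end Cfsg.Agent.OddHalf.D9.TwoM12
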