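import Cfsg.Agent.OddHalf.D9.TwoM12.Bad
import Cfsg.Agent.OddHalf.D9.TwoM12.KFacts
import Cfsg.Agent.OddHalf.D4.EvenCycM12

/-!
# `2.M12` in D4: the facts (m1), (m2), (m3), (P2) of `D4.EvenCycM12` for an arbitrary perfect double cover
-/

set_option autoImplicit false

namespace Cfsg.Agent.OddHalf.D9.TwoM12

open Cfsg Cfsg.Agent.CoThreeStd.MTwelve Cfsg.Agent.KFacts.MulTwo Cfsg.Agent.KFacts.MulDef

variable {L : Type*} [Group L] {π : L →* H} {c : L} [Finite L]

theorem Bad.of_even {X : Type*} [Group X] {a b : MulAut X} (h : D4.EvenCycM12.Bad a b) : Bad a b :=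
  ⟨h.a2, h.b2, h.comm, h.a1, h.b1, h.ne, h.ca, h.cab⟩

omit [Finite L] in
/-- commutators of automorphisms are inner, from `Out ≤ 2` -/
theorem comm_inner_of {X : Type*} [Group X]
    (h : ∀ α β : MulAut X, α ∉ (MulAut.conj : X →* MulAut X).range → β ∉ (MulAut.conj : X →* MulAut X).range →
      α * β ∈ (MulAut.conj : X →* MulAut X).range) (α β : MulAut X) :
    α * β * α⁻¹ * β⁻¹ ∈ (MulAut.conj : X →* MulAut X).range := by
  have hN : ∀ (φ : MulAut X) {ψ : MulAut X}, ψ ∈ (MulAut.conj : X →* MulAut X).range →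
      φ * ψ * φ⁻¹ ∈ (MulAut.conj : X →* MulAut X).range := by
    rintro φ _ ⟨k, rfl⟩
    exact ⟨φ k, by
      ext x
      simp [MulAut.mul_apply]⟩
  by_cases ha : α ∈ (MulAut.conj : X →* MulAut X).range
  · have e : α * β * α⁻¹ * β⁻¹ = α * (β * α⁻¹ * β⁻¹) := by group
    rw [e]
    exact mul_mem ha (hN β (inv_mem ha))
  by_cases hb : β ∈ (MulAut.conj : X →* MulAut X).range
  · exact mul_mem (hN α hb) (inv_mem hb)
  · have e : α * β * α⁻¹ * β⁻¹ = α * β * (β * α)⁻¹ := by group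
    rw [e]
    exact mul_mem (h α β ha hb) (inv_mem (h β α hb ha))

/-- **(m1), (m2), (m3) for `2.M12`.** -/
theorem evenFacts (hD : Dbl π c) : D4.EvenCycM12.Facts L where
  m1 := fun _ _ h ha hb => bad_inner hD (Bad.of_even h) (by obtain ⟨a, rfl⟩ := ha; exact ⟨a, rfl⟩)
    (by obtain ⟨b, rfl⟩ := hb; exact ⟨b, rfl⟩)
  m2 := fun _ _ h => bad_move hD (Bad.of_even h)
  m3 := fun α β => by
    obtain ⟨a, ha⟩ := comm_inner_of (fun α β ha hb => out hD α β ha hb) α β
    exact ⟨a, ha.symm⟩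

/-- **(P2) for `2.M12`.** -/
theorem evenSqDiff (hD : Dbl π c) : D4.EvenCyc.SqDiff L := fun _ haa ha1 => sqDiff hD haa ha1

/-- **The facts for D4 on a perfect group with centre of order 2 and central quotient `M12`.** -/
theorem exists_evenFacts {M : Type*} [Group M] [Finite M] (hp : commutator M = ⊤)
    (h2 : Nat.card (Subgroup.center M) = 2) (e : Spor.IsoM12 (M ⧸ Subgroup.center M)) :
    D4.EvenCycM12.Facts M ∧ D4.EvenCyc.SqDiff M := by
  obtain ⟨π, c, hD, -⟩ := exists_dbl hp h2 e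
  exact ⟨evenFacts hD, evenSqDiff hD⟩

end Cfsg.Agent.OddHalf.D9.TwoM12
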