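import Cfsg.Agent.OddHalf.D9.TwoM12.Roots

/-!
# Perfect double covers of `M12`: involutions, their roots, their centralisers
-/

set_option autoImplicit false
open scoped Pointwise
open Cfsg

namespace Cfsg.Agent.OddHalf.D9.TwoM12

open Cfsg.Agent.CoThreeStd.MTwelve Cfsg.Agent.CoThreeStd.InvTwo
open Cfsg.Agent.KFacts.MulTwo Cfsg.Agent.KFacts.MulDef

/-- elements of class 2A are not squares -/
theorem not_isA_sq (g : H) : ¬ IsA (g * g) := by
  rintro ⟨k, hk⟩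
  have h1 : (k * g * k⁻¹) * (k * g * k⁻¹) = y := by
    calc (k * g * k⁻¹) * (k * g * k⁻¹) = k * (g * g) * k⁻¹ := by group
      _ = k * (k⁻¹ * y * k) * k⁻¹ := by rw [hk]
      _ = y := by group
  obtain ⟨σ, h2⟩ := cent_y (k * g * k⁻¹) (by rw [← h1]; exact (mul_assoc _ _ _).symm)
  rcases h2 with h2 | h2
  · rw [h2, ← map_mul] at h1
    exact y_ne_w _ h1.symm
  · rw [h2] at h1
    apply y_ne_w (σ * σ)
    calc y = y * w σ * (y * w σ) := h1.symm
      _ = y * (w σ * y) * w σ := by group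
      _ = y * (y * w σ) * w σ := by rw [y_comm]
      _ = (y * y) * (w σ * w σ) := by group
      _ = w (σ * σ) := by rw [y_sq, one_mul, map_mul]

theorem pow_four_eq {M : Type*} [Monoid M] (x : M) : x ^ 4 = (x * x) * (x * x) := by
  rw [show (4 : ℕ) = 2 * 2 from rfl, pow_mul, pow_two, pow_two]

variable {L : Type*} [Group L] {π : L →* H} {c : L}

/-- elements of order 3 centralising `f` -/
theorem lift_cube (hD : Dbl π c) {f g : L} (hg : π g * π f * (π g)⁻¹ = p * r) {t : H} (ht : t ^ 3 = 1)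
    (htc : t * (p * r) = p * r * t) : ∃ T : L, T * f = f * T ∧ T ^ 3 = 1 ∧ π T = (π g)⁻¹ * t * π g := by
  obtain ⟨T, hT, hT3⟩ := exists_cube hD (n := (π g)⁻¹ * t * π g) (by
    calc ((π g)⁻¹ * t * π g) ^ 3 = (π g)⁻¹ * t ^ 3 * π g := by rw [pow_three, pow_three]; group
      _ = 1 := by rw [ht]; group)
  refine ⟨T, comm_cube hD hT3 ?_, hT3, hT⟩
  rw [hT]
  have h1 : π f = (π g)⁻¹ * (p * r) * π g := by rw [← hg]; group
  rw [h1]
  calc (π g)⁻¹ * t * π g * ((π g)⁻¹ * (p * r) * π g) = (π g)⁻¹ * (t * (p * r)) * π g := by group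
    _ = (π g)⁻¹ * (p * r * t) * π g := by rw [htc]
    _ = _ := by group

variable [Finite L]

theorem isB_of (hD : Dbl π c) {f : L} (h2 : f * f = 1) (h1 : f ≠ 1) (hc : f ≠ c) : IsB (π f) := by
  rcases inv_class (π f) (fun h => by
    rcases (hD.ker f).1 h with h | h
    · exact h1 h
    · exact hc h) (by rw [← map_mul, h2, map_one]) with h | h
  · exfalso
    have := sqA hD (x := f) h
    rw [h2] at this
    exact hD.ne this.symm
  · exact h

/-- moving an involution to one over `p r` -/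
theorem exists_over (hD : Dbl π c) {f : L} (h2 : f * f = 1) (h1 : f ≠ 1) (hc : f ≠ c) :
    ∃ g : L, π g * π f * (π g)⁻¹ = p * r := by
  obtain ⟨k, hk⟩ := isB_of hD h2 h1 hc
  obtain ⟨g, rfl⟩ := hD.surj k
  exact ⟨g, by rw [← hk]; group⟩

theorem conj_or (hD : Dbl π c) {f w : L} (h2 : f * f = 1) (h1 : f ≠ 1) (hc : f ≠ c) (h2' : w * w = 1)
    (h1' : w ≠ 1) (hc' : w ≠ c) : ∃ k, k * f * k⁻¹ = w ∨ k * (f * c) * k⁻¹ = w := by
  obtain ⟨g, hg⟩ := exists_over hD h2 h1 hc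
  obtain ⟨g', hg'⟩ := exists_over hD h2' h1' hc'
  have h3 : π (g'⁻¹ * g * f * (g'⁻¹ * g)⁻¹) = π w := by
    rw [map_mul, map_mul, map_inv, map_mul, map_inv]
    calc (π g')⁻¹ * π g * π f * ((π g')⁻¹ * π g)⁻¹ = (π g')⁻¹ * (π g * π f * (π g)⁻¹) * π g' := by group
      _ = (π g')⁻¹ * (π g' * π w * (π g')⁻¹) * π g' := by rw [hg, ← hg']
      _ = π w := by group
  refine ⟨g'⁻¹ * g, ?_⟩
  rcases eq_or hD h3 with h4 | h4
  · exact Or.inl h4
  · right
    have h5 : w = g'⁻¹ * g * f * (g'⁻¹ * g)⁻¹ * c := by rw [h4, mul_assoc, hD.sq, mul_one]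
    rw [h5]
    have h6 : c * (g'⁻¹ * g)⁻¹ = (g'⁻¹ * g)⁻¹ * c := hD.cen _
    calc g'⁻¹ * g * (f * c) * (g'⁻¹ * g)⁻¹ = g'⁻¹ * g * f * (c * (g'⁻¹ * g)⁻¹) := by group
      _ = _ := by rw [h6]; group

theorem sq_or (hD : Dbl π c) {f : L} (h2 : f * f = 1) (h1 : f ≠ 1) (hc : f ≠ c) :
    (∃ s, s * s = f) ∨ ∃ s, s * s = f * c := by
  obtain ⟨g, hg⟩ := exists_over hD h2 h1 hc
  obtain ⟨U, hU⟩ := hD.surj (wd wu)
  have h3 : π ((g⁻¹ * U * g) * (g⁻¹ * U * g)) = π f := by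
    have h4 : (g⁻¹ * U * g) * (g⁻¹ * U * g) = g⁻¹ * (U * U) * g := by group
    rw [h4, map_mul, map_mul, map_inv, map_mul, hU, wu_sq, ← hg]
    group
  rcases eq_or hD h3 with h4 | h4
  · exact Or.inl ⟨_, h4⟩
  · exact Or.inr ⟨_, h4⟩

theorem sq_not (hD : Dbl π c) {f : L} (h2 : f * f = 1) (h1 : f ≠ 1) (hc : f ≠ c) {s t : L} (hs : s * s = f)
    (ht : t * t = f * c) : False := by
  obtain ⟨g, hg⟩ := exists_over hD h2 h1 hc
  have key : ∀ x : L, π (x * x) = π f → π (g * x * g⁻¹) * π (g * x * g⁻¹) = p * r := by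
    intro x hx
    rw [← hg, ← hx]
    simp only [map_mul, map_inv]
    group
  have h3 := root_same hD (key s (by rw [hs])) (key t (by rw [ht, map_mul, pc hD, mul_one]))
  have h4 : s * s = t * t := by
    calc s * s = g⁻¹ * ((g * s * g⁻¹) * (g * s * g⁻¹)) * g := by group
      _ = g⁻¹ * ((g * t * g⁻¹) * (g * t * g⁻¹)) * g := by rw [h3]
      _ = t * t := by group
  rw [hs, ht] at h4
  exact hD.ne (mul_eq_left.1 h4.symm)

/-- squares over `f` are `f`, if `f` is a square -/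
theorem sq_eq_of (hD : Dbl π c) {f : L} (h2 : f * f = 1) (h1 : f ≠ 1) (hc : f ≠ c) {s t : L} (hs : s * s = f)
    (ht : π t * π t = π f) : t * t = f := by
  rcases eq_or hD (x := t * t) (y := f) (by rw [map_mul, ht]) with h | h
  · exact h
  · exact (sq_not hD h2 h1 hc hs h).elim

theorem four_ne (hD : Dbl π c) (x : L) : x ^ 4 ≠ c := by
  intro h
  have h4 : (x * x) * (x * x) = c := by rw [← h, pow_four_eq]
  have h5 : π (x * x) * π (x * x) = 1 := by rw [← map_mul, h4, pc hD]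
  rcases inv_class (π (x * x)) (fun h6 => by
    rcases (hD.ker _).1 h6 with h7 | h7
    · rw [h7, one_mul] at h4; exact hD.ne h4.symm
    · rw [h7, hD.sq] at h4; exact hD.ne h4.symm) h5 with h6 | h6
  · rw [map_mul] at h6
    exact not_isA_sq _ h6
  · have h7 := sqB hD (x := x * x) h6
    rw [h4] at h7
    exact hD.ne h7

/-- elements of order 3 -/
def wt1 : List ℕ := [2, 5, 0, 1, 4, 3, 2, 5]
/-- elements of order 3 -/
def wt2 : List ℕ := [2, 4, 5, 3, 2, 5, 1, 5, 1]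

theorem wt1_cube : wd wt1 ^ 3 = 1 := by
  rw [← wd_wpow]
  exact wd_eq (l' := []) (by decide +kernel)
theorem wt2_cube : wd wt2 ^ 3 = 1 := by
  rw [← wd_wpow]
  exact wd_eq (l' := []) (by decide +kernel)
theorem wt1_comm : wd wt1 * (p * r) = p * r * wd wt1 := comm_wd (by decide +kernel)
theorem wt2_comm : wd wt2 * (p * r) = p * r * wd wt2 := comm_wd (by decide +kernel)

theorem y3c (hD : Dbl π c) {f : L} (h2 : f * f = 1) (h1 : f ≠ 1) (hc : f ≠ c) :
    ∃ s ∈ Subgroup.closure {x : L | x * f = f * x ∧ x ^ 3 = 1}, s * s = c := by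
  obtain ⟨g, hg⟩ := exists_over hD h2 h1 hc
  obtain ⟨T1, a1, a2, a3⟩ := lift_cube hD hg wt1_cube wt1_comm
  obtain ⟨T2, b1, b2, b3⟩ := lift_cube hD hg wn_cube wn_comm
  refine ⟨T1 * T2, mul_mem (Subgroup.subset_closure ⟨a1, a2⟩) (Subgroup.subset_closure ⟨b1, b2⟩), ?_⟩
  apply sqA hD
  have h3 : IsA (wd (wt1 ++ wn)) := isA_wd (m := [5, 2, 4, 5]) (by decide +kernel)
  have h4 := h3.conj (π g)
  rw [map_mul, a3, b3]
  rw [wd_append] at h4
  have h5 : (π g)⁻¹ * wd wt1 * π g * ((π g)⁻¹ * wd wn * π g) = (π g)⁻¹ * (wd wt1 * wd wn) * π g := by group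
  rw [h5]
  exact h4

theorem y3f (hD : Dbl π c) {f : L} (h2 : f * f = 1) (h1 : f ≠ 1) (hc : f ≠ c) {s : L} (hs : s * s = f) :
    ∃ s ∈ Subgroup.closure {x : L | x * f = f * x ∧ x ^ 3 = 1}, s * s = f := by
  obtain ⟨g, hg⟩ := exists_over hD h2 h1 hc
  obtain ⟨T1, a1, a2, a3⟩ := lift_cube hD hg wt1_cube wt1_comm
  obtain ⟨T2, b1, b2, b3⟩ := lift_cube hD hg wt2_cube wt2_comm
  refine ⟨T1 * T2, mul_mem (Subgroup.subset_closure ⟨a1, a2⟩) (Subgroup.subset_closure ⟨b1, b2⟩), ?_⟩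
  apply sq_eq_of hD h2 h1 hc hs
  have h3 : wd ((wt1 ++ wt2) ++ (wt1 ++ wt2)) = p * r := by
    rw [← wd_pr]
    exact wd_eq (by decide +kernel)
  rw [wd_append, wd_append] at h3
  have h1' : π f = (π g)⁻¹ * (p * r) * π g := by rw [← hg]; group
  rw [map_mul, a3, b3, h1', ← h3]
  group

/-- words of three involutions -/
def w1 : List ℕ := [5, 2, 4, 5]
/-- words of three involutions -/
def w2 : List ℕ := [0, 5, 2, 4, 5, 0]
/-- words of three involutions -/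
def w3 : List ℕ := [4, 5, 1, 2, 1, 4, 5, 4]
/-- words of three involutions -/
def w0 : List ℕ := [2, 1, 3, 2]

theorem isB_w0 : IsB (wd w0) := isB_wd (m := [2]) (by decide +kernel)
theorem isB_w1 : IsB (wd w1) := isB_wd (m := [4, 3, 2, 1, 5]) (by decide +kernel)
theorem isB_w2 : IsB (wd w2) := isB_wd (m := [2, 1, 5, 0, 2, 5]) (by decide +kernel)
theorem isB_w3 : IsB (wd w3) := isB_wd (m := [4, 3, 2, 5, 4]) (by decide +kernel)
theorem isB_w0' : IsB (wd (w0 ++ [1, 3])) := isB_wd (m := [2, 1]) (by decide +kernel)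
theorem isB_w1' : IsB (wd (w1 ++ [1, 3])) := isB_wd (m := [2, 5, 0, 4, 5, 1]) (by decide +kernel)
theorem isB_w2' : IsB (wd (w2 ++ [1, 3])) := isB_wd (m := [2, 1, 5, 0, 4, 5]) (by decide +kernel)
theorem isB_w3' : IsB (wd (w3 ++ [1, 3])) := isB_wd (m := [2, 4, 5, 4, 5, 0, 4]) (by decide +kernel)

/-- an involution centralising `f` -/
theorem lift_inv (hD : Dbl π c) {f g : L} (h2 : f * f = 1) (hg : π g * π f * (π g)⁻¹ = p * r) {l : List ℕ}
    (hl : IsB (wd l)) (hl' : IsB (wd (l ++ [1, 3]))) :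
    ∃ W : L, W * f = f * W ∧ W * W = 1 ∧ π W = (π g)⁻¹ * wd l * π g := by
  obtain ⟨W, hW⟩ := hD.surj ((π g)⁻¹ * wd l * π g)
  have h1 : W * W = 1 := sqB hD (by rw [hW]; exact hl.conj _)
  have h3 : W * f * (W * f) = 1 := by
    apply sqB hD
    have h1' : π f = (π g)⁻¹ * (p * r) * π g := by rw [← hg]; group
    have h4 := hl'.conj (π g)
    rw [wd_append, wd_pr] at h4
    rw [map_mul, hW, h1']
    have h5 : (π g)⁻¹ * wd l * π g * ((π g)⁻¹ * (p * r) * π g) = (π g)⁻¹ * (wd l * (p * r)) * π g := by group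
    rw [h5]
    exact h4
  refine ⟨W, ?_, h1, hW⟩
  have := swap_eq h1 h2 h3 (one_mul _) (one_mul _) (by rw [one_mul, mul_one]) (by rw [one_mul, mul_one])
  rw [one_mul, one_mul, mul_one] at this
  exact this.symm

theorem four_mem (hD : Dbl π c) {f : L} (h2 : f * f = 1) (h1 : f ≠ 1) (hc : f ≠ c) {s : L} (hs : s * s = f) :
    ∃ x ∈ Subgroup.closure {x : L | x * f = f * x ∧ x * x = 1}, x ^ 4 = f := by
  obtain ⟨g, hg⟩ := exists_over hD h2 h1 hc
  obtain ⟨W1, a1, a2, a3⟩ := lift_inv hD h2 hg isB_w1 isB_w1'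
  obtain ⟨W2, b1, b2, b3⟩ := lift_inv hD h2 hg isB_w2 isB_w2'
  obtain ⟨W3, d1, d2, d3⟩ := lift_inv hD h2 hg isB_w3 isB_w3'
  refine ⟨W1 * W2 * W3, mul_mem (mul_mem (Subgroup.subset_closure ⟨a1, a2⟩) (Subgroup.subset_closure ⟨b1, b2⟩))
    (Subgroup.subset_closure ⟨d1, d2⟩), ?_⟩
  rw [pow_four_eq]
  apply sq_eq_of hD h2 h1 hc hs
  have h3 : wd (((w1 ++ w2 ++ w3) ++ (w1 ++ w2 ++ w3)) ++ ((w1 ++ w2 ++ w3) ++ (w1 ++ w2 ++ w3))) = p * r := by
    rw [← wd_pr]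
    exact wd_eq (by decide +kernel)
  rw [wd_append, wd_append, wd_append, wd_append] at h3
  have h1' : π f = (π g)⁻¹ * (p * r) * π g := by rw [← hg]; group
  rw [h1', ← h3, map_mul, map_mul, map_mul, a3, b3, d3]
  group

/-- the conjugacy of `Y` and `Y c` -/
theorem conj_yc (hD : Dbl π c) : ∃ Y P : L, π Y = y ∧ P * Y * P⁻¹ = Y * c := by
  obtain ⟨Y, hY⟩ := hD.surj y
  obtain ⟨P, hP⟩ := hD.surj p
  refine ⟨Y, P, hY, ?_⟩
  have hYY : Y * Y = c := sqA hD (by rw [hY]; exact isA_y)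
  have hPP : P * P = c := sqA hD (isA_of (l := [1]) (m := [5, 1, 5, 0, 2, 5, 2]) (by rw [hP, wd_p]) (by decide +kernel))
  have hYP : Y * P * (Y * P) = c := sqA hD (isA_of (l := [0, 1]) (m := [5, 0, 1, 2, 5, 1, 5])
    (by rw [map_mul, hY, hP]; simp [wd, gen]) (by decide +kernel))
  have h1 := swap_eq hYY hPP hYP hD.sq hD.sq (hD.cen _) (hD.cen _)
  rw [hD.sq, one_mul] at h1
  rw [h1]
  calc Y * P * c * P⁻¹ = Y * P * (c * P⁻¹) := by group
    _ = Y * P * (P⁻¹ * c) := by rw [hD.cen]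
    _ = Y * c := by group

theorem isA_of_sq (hD : Dbl π c) {k : L} (hk : k * k = c) : IsA (π k) := by
  rcases inv_class (π k) (fun h => by
    rcases (hD.ker k).1 h with h | h
    · rw [h, one_mul] at hk; exact hD.ne hk.symm
    · rw [h, hD.sq] at hk; exact hD.ne hk.symm) (by rw [← map_mul, hk, pc hD]) with h | h
  · exact h
  · have := sqB hD (x := k) h
    rw [hk] at this
    exact (hD.ne this).elim

theorem v_conj (hD : Dbl π c) {k m : L} (hk : k * k = c) (hm : m * m = c) : ∃ g, g * k * g⁻¹ = m := by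
  obtain ⟨Y, P, hY, hP⟩ := conj_yc hD
  have key : ∀ k : L, k * k = c → ∃ g, g * Y * g⁻¹ = k := by
    intro k hk
    obtain ⟨h, hh⟩ := isA_of_sq hD hk
    obtain ⟨g, rfl⟩ := hD.surj h
    have h1 : π k = π (g⁻¹ * Y * g) := by rw [map_mul, map_mul, map_inv, hY, hh]
    rcases eq_or hD h1 with h2 | h2
    · exact ⟨g⁻¹, by rw [h2, inv_inv]⟩
    · refine ⟨g⁻¹ * P, ?_⟩
      rw [h2]
      calc g⁻¹ * P * Y * (g⁻¹ * P)⁻¹ = g⁻¹ * (P * Y * P⁻¹) * g := by group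
        _ = g⁻¹ * Y * (c * g) := by rw [hP]; group
        _ = g⁻¹ * Y * (g * c) := by rw [hD.cen]
        _ = _ := by group
  obtain ⟨a, ha⟩ := key k hk
  obtain ⟨b, hb⟩ := key m hm
  refine ⟨b * a⁻¹, ?_⟩
  rw [← ha, ← hb]
  group

end Cfsg.Agent.OddHalf.D9.TwoM12
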