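import Cfsg.Agent.OddHalf.D9.TwoM12.SqA

/-!
# Perfect double covers of `M12`: square roots of the lifts of 2B-involutions

All square roots (in `M12`) of `p r` have lifts with the same square (`root_same`).
-/

set_option autoImplicit false
open scoped Pointwise
open Cfsg

namespace Cfsg.Agent.OddHalf.D9.TwoM12

open Cfsg.Agent.CoThreeStd.MTwelve Cfsg.Agent.CoThreeStd.InvTwo
open Cfsg.Agent.CoThreeStd.DeltaData (mem_cbe cbe)
open Cfsg.Agent.KFacts.MulTwo Cfsg.Agent.KFacts.MulDef

/-! ### `M12` -/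

/-- a square root of `p r` -/
def wu : List ℕ := [0, 1, 2, 1, 3, 2]
/-- a square root of `p r` -/
def wv : List ℕ := [1, 2, 1, 3, 2]
/-- an element of order 3 in the centraliser of `p r` -/
def wn : List ℕ := [1, 2, 4, 5, 3, 2, 5, 1, 5]

/-- all square roots -/
def rl : List (List ℕ × List ℕ) :=
  [(wu, []), (wu, wn), (wu, wn ++ wn), (wu.reverse, []), (wu.reverse, wn), (wu.reverse, wn ++ wn),
    (wv, []), (wv, wn), (wv, wn ++ wn), (wv.reverse, []), (wv.reverse, wn), (wv.reverse, wn ++ wn)]

/-- test for an element of the centraliser -/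
def tR (l : List ℕ) : Bool := !(eqW (l ++ l) [1, 3]) || rl.any (fun x => eqW l (cj x.1 x.2))

set_option maxRecDepth 100000 in
theorem tR_all : cbe.all tR = true := by decide +kernel

theorem cbe_check {t : List ℕ → Bool} (h : cbe.all t = true) (m : H) (hm : m * (p * r) = (p * r) * m) :
    ∃ l, wd l = m ∧ t l = true := by
  obtain ⟨l, hl, h1⟩ := mem_cbe m (by
    show m * wd [1, 3] = wd [1, 3] * m
    rw [wd_pr]
    exact hm)
  exact ⟨l, h1, List.all_eq_true.mp h l hl⟩

theorem roots {x : H} (hx : x * x = p * r) : ∃ a ∈ rl, x = (wd a.2)⁻¹ * wd a.1 * wd a.2 := by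
  obtain ⟨l, rfl, h⟩ := cbe_check tR_all x (by rw [← hx, mul_assoc])
  rw [tR, Bool.or_eq_true] at h
  rcases h with h | h
  · exfalso
    have h1 : eqW (l ++ l) [1, 3] = true := by
      apply eqW_of_wd
      rw [wd_append, hx, wd_pr]
    rw [h1] at h
    exact Bool.noConfusion h
  · obtain ⟨a, ha, h1⟩ := List.any_eq_true.mp h
    exact ⟨a, ha, by rw [← wd_cj, wd_eq h1]⟩

theorem wn_cube : wd wn ^ 3 = 1 := by
  rw [← wd_wpow]
  exact wd_eq (l' := []) (by decide +kernel)

theorem wnn_cube : wd (wn ++ wn) ^ 3 = 1 := by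
  rw [← wd_wpow]
  exact wd_eq (l' := []) (by decide +kernel)

theorem comm_wd {l : List ℕ} (h : eqW (l ++ [1, 3]) ([1, 3] ++ l) = true) : wd l * (p * r) = p * r * wd l := by
  have h1 := wd_eq h
  rwa [wd_append, wd_append, wd_pr] at h1

theorem wn_comm : wd wn * (p * r) = p * r * wd wn := comm_wd (by decide +kernel)
theorem wnn_comm : wd (wn ++ wn) * (p * r) = p * r * wd (wn ++ wn) := comm_wd (by decide +kernel)

theorem wu_sq : wd wu * wd wu = p * r := by
  rw [← wd_append, ← wd_pr]
  exact wd_eq (by decide +kernel)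

theorem wv_sq : wd wv * wd wv = p * r := by
  rw [← wd_append, ← wd_pr]
  exact wd_eq (by decide +kernel)

theorem rl_spec : ∀ a ∈ rl, a.1 ∈ [wu, wu.reverse, wv, wv.reverse] ∧ a.2 ∈ [[], wn, wn ++ wn] := by
  decide +kernel

theorem n_spec (n : List ℕ) (hn : n ∈ [[], wn, wn ++ wn]) :
    wd n ^ 3 = 1 ∧ wd n * (p * r) = (p * r) * wd n := by
  rw [List.mem_cons, List.mem_cons, List.mem_singleton] at hn
  rcases hn with h | h | h
  · rw [h, wd_nil, one_pow, one_mul, mul_one]
    exact ⟨rfl, rfl⟩
  · rw [h]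
    exact ⟨wn_cube, wn_comm⟩
  · rw [h]
    exact ⟨wnn_cube, wnn_comm⟩

theorem isB_pr' {x : H} (h : x = p * r) : IsB x := h ▸ isB_pr

/-! ### the cover -/

variable {L : Type*} [Group L] {π : L →* H} {c : L}

theorem cube_c (hD : Dbl π c) : c * c * c = c := by rw [hD.sq, one_mul]

/-- lifting elements of order 3 -/
theorem exists_cube (hD : Dbl π c) {n : H} (hn : n ^ 3 = 1) : ∃ N, π N = n ∧ N ^ 3 = 1 := by
  obtain ⟨N, hN⟩ := hD.surj n
  have h1 : π (N ^ 3) = 1 := by rw [map_pow, hN, hn]
  refine ⟨N ^ 4, ?_, ?_⟩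
  · rw [map_pow, hN, pow_succ, hn, one_mul]
  · rw [← pow_mul, show 4 * 3 = 3 * 4 from rfl, pow_mul]
    rcases (hD.ker _).1 h1 with h2 | h2
    · rw [h2, one_pow]
    · have h3 : c ^ 2 = 1 := by rw [pow_two, hD.sq]
      rw [h2, show (4 : ℕ) = 2 * 2 from rfl, pow_mul, h3, one_pow]

/-- elements of order 3 commute with the lift of an element which they centralise modulo `c` -/
theorem comm_cube (hD : Dbl π c) {N F : L} (hN : N ^ 3 = 1) (h : π N * π F = π F * π N) : N * F = F * N := by
  rcases eq_or hD (x := N * F) (y := F * N) (by rw [map_mul, map_mul, h]) with h1 | h1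
  · exact h1
  · exfalso
    have h2 : N * N * F = F * (N * N) := by
      calc N * N * F = N * (N * F) := by group
        _ = N * (F * N * c) := by rw [h1]
        _ = (N * F) * (N * c) := by group
        _ = F * N * (c * N) * c := by rw [h1]; group
        _ = F * N * (N * c) * c := by rw [hD.cen]
        _ = F * (N * N) * (c * c) := by group
        _ = _ := by rw [hD.sq, mul_one]
    have h3 : N ^ 3 * F = F * N ^ 3 * c := by
      calc N ^ 3 * F = N * (N * N * F) := by rw [pow_three]; group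
        _ = (N * F) * (N * N) := by rw [h2]; group
        _ = F * N * (c * (N * N)) := by rw [h1]; group
        _ = F * N * (N * N * c) := by rw [hD.cen]
        _ = _ := by rw [pow_three]; group
    rw [hN, one_mul, mul_one] at h3
    exact hD.ne (mul_eq_left.1 h3.symm)

theorem root_conj (hD : Dbl π c) {x x' : L} {n : H} (hn : n ^ 3 = 1) (hnb : n * (p * r) = (p * r) * n)
    (hx : π x * π x = p * r) (h : π x' = n⁻¹ * π x * n) : x' * x' = x * x := by
  obtain ⟨N, rfl, hN⟩ := exists_cube hD hn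
  rw [sq_conj hD h]
  have h1 := comm_cube hD hN (F := x * x) (by rw [map_mul, hx]; exact hnb)
  rw [mul_assoc, ← h1, inv_mul_cancel_left]

variable [Finite L]

theorem inv_root (hD : Dbl π c) {x : L} (hx : π x * π x = p * r) : (x * x) * (x * x) = 1 :=
  sqB hD (isB_pr' (by rw [map_mul, hx]))

theorem root_inv (hD : Dbl π c) {x x' : L} (hx : π x * π x = p * r) (h : π x' = (π x)⁻¹) :
    x' * x' = x * x := by
  rw [sq_eq hD (x := x') (y := x⁻¹) (by rw [h, map_inv]), ← mul_inv_rev]
  exact inv_eq_of_mul_eq_one_left (inv_root hD hx)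

theorem root_uv (hD : Dbl π c) {U V : L} (hU : π U = wd wu) (hV : π V = wd wv) : U * U = V * V := by
  obtain ⟨W, hW⟩ := hD.surj (wd (cj wv wn))
  have hUs : π U * π U = p * r := by rw [hU, wu_sq]
  have hVs : π V * π V = p * r := by rw [hV, wv_sq]
  have hW2 : W * W = V * V := root_conj hD wn_cube wn_comm hVs (by rw [hW, hV, wd_cj])
  have hVW : V * W * (V * W) = V * V := root_conj hD wnn_cube wnn_comm hVs (by
    rw [map_mul, hV, hW, ← wd_cj, ← wd_append]
    exact wd_eq (by decide +kernel))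
  have h1 : U * V * (U * V) = c := sqA hD (by
    rw [map_mul, hU, hV, ← wd_append]
    exact isA_wd (m := [5, 0, 1, 3, 5, 2, 4]) (by decide +kernel))
  have h2 : U * W * (U * W) = c := sqA hD (by
    rw [map_mul, hU, hW, ← wd_append]
    exact isA_wd (m := [5, 2, 4, 5]) (by decide +kernel))
  have h3 : U * (V * W) * (U * (V * W)) = 1 := sqB hD (by
    rw [map_mul, map_mul, hU, hV, hW, ← wd_append, ← wd_append]
    exact isB_wd (m := [5, 0, 2, 5, 0]) (by decide +kernel))
  obtain ⟨a, ha⟩ : ∃ a, a = U * U := ⟨_, rfl⟩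
  obtain ⟨b, hb⟩ : ∃ b, b = V * V := ⟨_, rfl⟩
  have haa : a * a = 1 := by rw [ha]; exact inv_root hD hUs
  have hbb : b * b = 1 := by rw [hb]; exact inv_root hD hVs
  have hab : a = b ∨ a = b * c := by
    rw [ha, hb]
    exact eq_or hD (by rw [map_mul, map_mul, hUs, hVs])
  have comm_of : ∀ g : L, b * g = g * b → a * g = g * a := by
    intro g hg
    rcases hab with h | h
    · rw [h]; exact hg
    · rw [h]
      calc b * c * g = b * (c * g) := by group
        _ = b * (g * c) := by rw [hD.cen]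
        _ = (b * g) * c := by group
        _ = g * b * c := by rw [hg]
        _ = g * (b * c) := by group
  have hbV : b * V = V * b := by rw [hb, mul_assoc]
  have hbW : b * W = W * b := by rw [hb, ← hW2, mul_assoc]
  have e1 : V * U = U * V * (a * c * b) := swap_eq ha.symm hb.symm h1 haa hbb (comm_of V hbV) (hD.cen _)
  have e2 : W * U = U * W * (a * c * b) := swap_eq ha.symm (hW2.trans hb.symm) h2 haa hbb (comm_of W hbW) (hD.cen _)
  have hacb : a * c * b = c ∨ a * c * b = 1 := by
    rcases hab with h | h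
    · left
      rw [h]
      calc b * c * b = b * (c * b) := by group
        _ = b * (b * c) := by rw [hD.cen]
        _ = c := by rw [← mul_assoc, hbb, one_mul]
    · right
      rw [h]
      calc b * c * c * b = b * (c * c) * b := by group
        _ = 1 := by rw [hD.sq, mul_one, hbb]
  have hcen : ∀ g : L, a * c * b * g = g * (a * c * b) := cen_of hD hacb.symm
  have hsq : a * c * b * (a * c * b) = 1 := sq_of hD hacb.symm
  have e3 : (V * W) * U = U * (V * W) := by
    calc (V * W) * U = V * (W * U) := by group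
      _ = V * (U * W * (a * c * b)) := by rw [e2]
      _ = (V * U) * W * (a * c * b) := by group
      _ = U * V * ((a * c * b) * W) * (a * c * b) := by rw [e1]; group
      _ = U * V * (W * (a * c * b)) * (a * c * b) := by rw [hcen]
      _ = U * (V * W) * ((a * c * b) * (a * c * b)) := by group
      _ = _ := by rw [hsq, mul_one]
  have e4 : a * b = 1 := by
    calc a * b = (U * U) * (V * W * (V * W)) := by rw [hVW, ha, hb]
      _ = U * (U * (V * W)) * (V * W) := by group
      _ = U * ((V * W) * U) * (V * W) := by rw [e3]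
      _ = U * (V * W) * (U * (V * W)) := by group
      _ = 1 := h3
  rw [← ha, ← hb]
  exact (eq_inv_of_mul_eq_one_left e4).trans (inv_eq_of_mul_eq_one_left hbb)

theorem root_eq (hD : Dbl π c) {U : L} (hU : π U = wd wu) {x : L} (hx : π x * π x = p * r) : x * x = U * U := by
  obtain ⟨V, hV⟩ := hD.surj (wd wv)
  have hUs : π U * π U = p * r := by rw [hU, wu_sq]
  have hVs : π V * π V = p * r := by rw [hV, wv_sq]
  have hUV := root_uv hD hU hV
  -- the four base points
  have key : ∀ l, l ∈ [wu, wu.reverse, wv, wv.reverse] → ∀ Z, π Z = wd l → π Z * π Z = p * r ∧ Z * Z = U * U := by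
    intro l hl Z hZ
    have hinv : ∀ z : L, π z * π z = p * r → (π z)⁻¹ * (π z)⁻¹ = p * r := by
      intro z hz
      rw [← mul_inv_rev, hz]
      exact inv_eq_of_mul_eq_one_left pr_sq
    rw [List.mem_cons, List.mem_cons, List.mem_cons, List.mem_singleton] at hl
    rcases hl with rfl | rfl | rfl | rfl
    · exact ⟨by rw [hZ, wu_sq], sq_eq hD (hZ.trans hU.symm)⟩
    · have h1 : π Z = (π U)⁻¹ := by rw [hZ, hU, wd_reverse]
      exact ⟨by rw [h1]; exact hinv U hUs, root_inv hD hUs h1⟩
    · exact ⟨by rw [hZ, wv_sq], (sq_eq hD (hZ.trans hV.symm)).trans hUV.symm⟩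
    · have h1 : π Z = (π V)⁻¹ := by rw [hZ, hV, wd_reverse]
      exact ⟨by rw [h1]; exact hinv V hVs, (root_inv hD hVs h1).trans hUV.symm⟩
  obtain ⟨⟨l, n⟩, ha, h1⟩ := roots hx
  have hl : l ∈ [wu, wu.reverse, wv, wv.reverse] := (rl_spec _ ha).1
  obtain ⟨hn, hnb⟩ := n_spec n (rl_spec _ ha).2
  obtain ⟨Z, hZ⟩ := hD.surj (wd l)
  obtain ⟨hZs, hZU⟩ := key l hl Z hZ
  rw [← hZU]
  exact root_conj hD hn hnb hZs (by rw [h1, hZ])

/-- **All roots have the same square.** -/
theorem root_same (hD : Dbl π c) {x x' : L} (hx : π x * π x = p * r) (hx' : π x' * π x' = p * r) :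
    x * x = x' * x' := by
  obtain ⟨U, hU⟩ := hD.surj (wd wu)
  rw [root_eq hD hU hx, root_eq hD hU hx']

end Cfsg.Agent.OddHalf.D9.TwoM12
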