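import Cfsg.Agent.OddHalf.D9.TwoM12.Base

/-!
# Perfect double covers of `M12`: the lifts of elements of class 2A have order 4
-/

set_option autoImplicit false
open scoped Pointwise
open Cfsg

namespace Cfsg.Agent.OddHalf.D9.TwoM12

open Cfsg.Agent.CoThreeStd.MTwelve Cfsg.Agent.CoThreeStd.InvTwo
open Cfsg.Agent.KFacts.MulTwo Cfsg.Agent.KFacts.MulDef
open Cfsg.Agent.ClassificationK.GTwoModel
open Cfsg.Agent.MTwelveType.SylowModel (A B C D hom hom_apply bp card_range_hom liftHom liftFun hom_injective
  relA relB relAB relC relD relCD relCA relCB relDA relDB)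

variable {L : Type*} [Group L] {π : L →* H} {c : L}

theorem false_of_sq [Finite L] (hD : Dbl π c) (h : ∀ x, π x * π x = 1 → x * x = 1) : False := by
  obtain ⟨a, ha⟩ := hD.surj A
  obtain ⟨x, hx⟩ := hD.surj C
  obtain ⟨e, he⟩ := hD.surj D
  have hxx : x * x = 1 := h x (by rw [hx]; exact relC)
  have hee : e * e = 1 := h e (by rw [he]; exact relD)
  have hxi : x⁻¹ = x := inv_eq_of_mul_eq_one_left hxx
  have hei : e⁻¹ = e := inv_eq_of_mul_eq_one_left hee
  obtain ⟨b, hbd⟩ : ∃ b, b = e * a * e := ⟨_, rfl⟩
  have hb : π b = B := by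
    rw [hbd, map_mul, map_mul, he, ha, relDA, mul_assoc, relD, mul_one]
  have inv_of : ∀ g : L, (g * x) * (g * x) = 1 → x * g = g⁻¹ * x := by
    intro g hg
    calc x * g = g⁻¹ * ((g * x) * (g * x)) * x⁻¹ := by group
      _ = g⁻¹ * x := by rw [hg, hxi, mul_one]
  have hxa : x * a = a⁻¹ * x := by
    apply inv_of
    apply h
    rw [map_mul, ha, hx]
    calc A * C * (A * C) = A * (C * A) * C := by group
      _ = A * (A⁻¹ * C) * C := by rw [relCA]
      _ = C * C := by group
      _ = 1 := relC
  have hxb : x * b = b⁻¹ * x := by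
    apply inv_of
    apply h
    rw [map_mul, hb, hx]
    calc B * C * (B * C) = B * (C * B) * C := by group
      _ = B * (B⁻¹ * C) * C := by rw [relCB]
      _ = C * C := by group
      _ = 1 := relC
  have hxab : x * (a * b) = (a * b)⁻¹ * x := by
    apply inv_of
    apply h
    rw [map_mul, map_mul, ha, hb, hx]
    calc A * B * C * (A * B * C) = A * B * (C * A) * B * C := by group
      _ = A * B * (A⁻¹ * C) * B * C := by rw [relCA]
      _ = A * B * A⁻¹ * (C * B) * C := by group
      _ = A * B * A⁻¹ * (B⁻¹ * C) * C := by rw [relCB]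
      _ = (A * B) * (B * A)⁻¹ * (C * C) := by group
      _ = 1 := by rw [← relAB, mul_inv_cancel, relC, mul_one]
  have hab : a * b = b * a := by
    have h1 : x * (a * b) = a⁻¹ * b⁻¹ * x := by
      calc x * (a * b) = (x * a) * b := by group
        _ = a⁻¹ * (x * b) := by rw [hxa]; group
        _ = _ := by rw [hxb]; group
    rw [hxab] at h1
    have h2 := mul_right_cancel h1
    rw [← mul_inv_rev, inv_inj] at h2
    exact h2
  have ha4 : a ^ (2 * 2) = 1 := by
    have h1 : (a * a) * (a * a) = 1 := by
      apply h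
      rw [map_mul, ha, ← pow_two, ← pow_two, ← pow_mul]
      exact relA
    rw [pow_mul, pow_two, pow_two]
    exact h1
  have hb4 : b ^ (2 * 2) = 1 := by
    have h1 : (b * b) * (b * b) = 1 := by
      apply h
      rw [map_mul, hb, ← pow_two, ← pow_two, ← pow_mul]
      exact relB
    rw [pow_mul, pow_two, pow_two]
    exact h1
  have hxe : x * e = e * x := by
    have h1 : (x * e) * (x * e) = 1 := by
      apply h
      rw [map_mul, hx, he]
      calc C * D * (C * D) = C * (D * C) * D := by group
        _ = C * (C * D) * D := by rw [relCD]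
        _ = (C * C) * (D * D) := by group
        _ = 1 := by rw [relC, relD, mul_one]
    calc x * e = (x * e) * (x * e) * (e⁻¹ * x⁻¹) := by group
      _ = e * x := by rw [h1, hei, hxi, one_mul]
  have hea : e * a = b * e := by rw [hbd, mul_assoc (e * a), hee, mul_one]
  have heb : e * b = a * e := by
    rw [hbd]
    calc e * (e * a * e) = (e * e) * a * e := by group
      _ = a * e := by rw [hee, one_mul]
  let σ : T (2 * 2) →* L := liftHom ha4 hb4 hab hxx hee hxe hxa hxb hea heb
  have hσ : ∀ t, π (σ t) = hom t := by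
    intro t
    rw [hom_apply]
    show π (a ^ t.i.val * b ^ t.j.val * (bp x t.e * bp e t.d)) = _
    rw [map_mul, map_mul, map_pow, map_pow, map_mul, ha, hb]
    congr 2
    · cases t.e
      · exact map_one π
      · exact hx
    · cases t.d
      · exact map_one π
      · exact he
  refine hD.toCtr.false_of_compl (P := hom.range.comap π) (P₁ := σ.range) ?_ ?_ ?_ ?_
  · rw [Subgroup.mem_comap, pc hD]
    exact one_mem _
  · rw [Subgroup.index_comap_of_surjective _ hD.surj]
    have h1 := (hom.range).card_mul_index
    rw [card_range_hom, card_H] at h1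
    have h2 : (hom.range).index = 1485 := by omega
    rw [h2]
    norm_num
  · rintro ⟨t, ht⟩
    have h1 := hσ t
    rw [ht, pc hD] at h1
    have h2 : t = 1 := hom_injective (h1.symm.trans (map_one hom).symm)
    rw [h2, map_one] at ht
    exact hD.ne ht.symm
  · rintro g ⟨t, ht⟩
    rw [← hσ] at ht
    rcases eq_or hD ht.symm with h1 | h1
    · left; exact ⟨t, h1.symm⟩
    · right
      refine ⟨t, ?_⟩
      rw [h1, ← hD.cen, ← mul_assoc, hD.sq, one_mul]

variable [Finite L]

/-- **Lifts of elements of class 2A have order 4.** -/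
theorem sqA (hD : Dbl π c) {x : L} (h : IsA (π x)) : x * x = c := by
  obtain ⟨s, hs, hA, hB⟩ := exists_s hD
  rcases hs with rfl | rfl
  · exfalso
    apply false_of_sq hD
    intro x hx
    by_cases h1 : π x = 1
    · rcases (hD.ker x).1 h1 with rfl | rfl
      · exact one_mul _
      · exact hD.sq
    · rcases inv_class (π x) h1 hx with h2 | h2
      · exact hA x h2
      · exact hB x h2
  · exact hA x h

/-- **Lifts of elements of class 2B have order 2.** -/
theorem sqB (hD : Dbl π c) {x : L} (h : IsB (π x)) : x * x = 1 := by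
  obtain ⟨s, hs, hA, hB⟩ := exists_s hD
  exact hB x h

end Cfsg.Agent.OddHalf.D9.TwoM12
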